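import Cfsg.Agent.Lib.Involution.Dihedral
import Mathlib.GroupTheory.Perm.Cycle.Type
import Mathlib.GroupTheory.PGroup
import Mathlib.GroupTheory.QuotientGroup.Basic
import Mathlib.Data.Set.Card

/-!
# Sets of involutions in which every product has order 1, 2 or a fixed prime `p ≥ 5`

Elementary identities, triples `(x, y, z)` with `x, y` commuting and `z` commuting with neither, and
the passage to subgroups and quotients.
-/

set_option autoImplicit false
set_option linter.style.haveILetI false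

namespace CfsgLib.TwoP

open Subgroup

universe u

variable {G : Type u} [Group G]

/-- A conjugation invariant set of involutions, every two of which commute or have product of order `p`. -/
structure Hyp (p : ℕ) (D : Set G) : Prop where
  prime : p.Prime
  five : 5 ≤ p
  sq : ∀ d ∈ D, d * d = 1
  ne : ∀ d ∈ D, d ≠ 1
  conj : ∀ g : G, ∀ d ∈ D, g * d * g⁻¹ ∈ D
  pair : ∀ a ∈ D, ∀ b ∈ D, Commute a b ∨ orderOf (a * b) = p

/-- A commuting pair and a member commuting with neither. -/
structure Bad (D : Set G) (x y z : G) : Prop where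
  hx : x ∈ D
  hy : y ∈ D
  hz : z ∈ D
  ne : x ≠ y
  comm : Commute x y
  nxz : ¬ Commute x z
  nyz : ¬ Commute y z

/-- In no bad triple does the product of the commuting pair move the third member to a commuting one. -/
def NoWitness (D : Set G) : Prop :=
  ∀ x y z, Bad D x y z → ¬ Commute z (x * y * z * (x * y)⁻¹)

theorem Bad.conj {D : Set G} (hD : ∀ g : G, ∀ d ∈ D, g * d * g⁻¹ ∈ D) {x y z : G}
    (h : Bad D x y z) (g : G) : Bad D (g * x * g⁻¹) (g * y * g⁻¹) (g * z * g⁻¹) :=
  ⟨hD g x h.hx, hD g y h.hy, hD g z h.hz, fun he => h.ne (by simpa using he),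
    (Commute.conj_iff g).2 h.comm, fun hc => h.nxz ((Commute.conj_iff g).1 hc),
    fun hc => h.nyz ((Commute.conj_iff g).1 hc)⟩

theorem Bad.swap {D : Set G} {x y z : G} (h : Bad D x y z) : Bad D y x z :=
  ⟨h.hy, h.hx, h.hz, h.ne.symm, h.comm.symm, h.nyz, h.nxz⟩

namespace Hyp

variable {p : ℕ} {D : Set G} (h : Hyp p D)
include h

theorem inv_eq {d : G} (hd : d ∈ D) : d⁻¹ = d :=
  inv_eq_of_mul_eq_one_right (h.sq d hd)

theorem orderOf_eq {d : G} (hd : d ∈ D) : orderOf d = 2 :=
  Involution.Dihedral.orderOf_eq_two (h.sq d hd) (h.ne d hd)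

theorem odd : Odd p := h.prime.odd_of_ne_two (by have := h.five; omega)

theorem prod_sq {x y : G} (hx : x ∈ D) (hy : y ∈ D) (hc : Commute x y) :
    x * y * (x * y) = 1 := by
  rw [hc.mul_mul_mul_comm (d := y) |> fun _ => show x * y * (x * y) = x * (y * x) * y by group,
    ← hc.eq, show x * (x * y) * y = x * x * (y * y) by group, h.sq x hx, h.sq y hy, one_mul]

theorem prod_inv {x y : G} (hx : x ∈ D) (hy : y ∈ D) (hc : Commute x y) : (x * y)⁻¹ = x * y :=
  inv_eq_of_mul_eq_one_right (h.prod_sq hx hy hc)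

theorem order {a b : G} (ha : a ∈ D) (hb : b ∈ D) (hn : ¬ Commute a b) : orderOf (a * b) = p :=
  (h.pair a ha b hb).resolve_left hn

theorem pow_eq_one {a b : G} (ha : a ∈ D) (hb : b ∈ D) (hn : ¬ Commute a b) : (a * b) ^ p = 1 :=
  h.order ha hb hn ▸ pow_orderOf_eq_one _

/-- An element of order dividing `p` with square one is trivial. -/
theorem eq_one_of_sq {u : G} (hu : u ^ p = 1) (h2 : u * u = 1) : u = 1 := by
  obtain ⟨k, hk⟩ := h.odd
  rwa [hk, pow_succ, pow_mul, pow_two, h2, one_pow, one_mul] at hu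

theorem not_commute_of_order {a b : G} (ha : a ∈ D) (hb : b ∈ D) (ho : orderOf (a * b) = p) :
    ¬ Commute a b := fun hc => by
  have h1 := h.eq_one_of_sq (ho ▸ pow_orderOf_eq_one _) (h.prod_sq ha hb hc)
  rw [h1, orderOf_one] at ho
  exact h.prime.ne_one ho.symm

/-- No product of two members is the product of an involution with a product of order `p` commuting
with it. -/
theorem no_twop {a b c d t : G} (ha : a ∈ D) (hb : b ∈ D) (hn : ¬ Commute a b) (hc : c ∈ D)
    (hd : d ∈ D) (ht2 : t * t = 1) (ht : t ≠ 1) (htc : Commute t (a * b))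
    (he : c * d = t * (a * b)) : False := by
  rcases h.pair c hc d hd with hcd | hcd
  · have h1 := h.prod_sq hc hd hcd
    rw [he, htc.symm.mul_mul_mul_comm, ht2, one_mul] at h1
    refine hn ?_
    have h2 := h.eq_one_of_sq (h.pow_eq_one ha hb hn) h1
    rw [mul_eq_one_iff_eq_inv, h.inv_eq hb] at h2
    subst h2
    exact Commute.refl a
  · have h1 : (c * d) ^ p = 1 := hcd ▸ pow_orderOf_eq_one _
    obtain ⟨k, hk⟩ := h.odd
    rw [he, htc.mul_pow, h.pow_eq_one ha hb hn, mul_one, hk, pow_succ, pow_mul, pow_two, ht2,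
      one_pow, one_mul] at h1
    exact ht h1

theorem inverts {a b : G} (ha : a ∈ D) (hb : b ∈ D) : a * (a * b) * a⁻¹ = (a * b)⁻¹ := by
  rw [mul_inv_rev, h.inv_eq ha, h.inv_eq hb, ← mul_assoc, h.sq a ha, one_mul]

/-- An element inverted by one of two non-commuting members and centralised by the other is an
involution. -/
theorem sq_eq_one_of_inverts {a b g : G} (ha : a ∈ D) (hb : b ∈ D) (hn : ¬ Commute a b)
    (hga : Commute a g) (hgb : b * g * b⁻¹ = g⁻¹) : g * g = 1 := by
  have h1 : ∀ n : ℕ, (Even n → (a * b) ^ n * g * ((a * b) ^ n)⁻¹ = g) ∧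
      (Odd n → (a * b) ^ n * g * ((a * b) ^ n)⁻¹ = g⁻¹) := by
    have s : a * b * g * (a * b)⁻¹ = g⁻¹ := by
      rw [show a * b * g * (a * b)⁻¹ = a * (b * g * b⁻¹) * a⁻¹ by group, hgb, hga.inv_right.eq,
        mul_inv_cancel_right]
    have s' : a * b * g⁻¹ * (a * b)⁻¹ = g := by
      rw [show a * b * g⁻¹ * (a * b)⁻¹ = (a * b * g * (a * b)⁻¹)⁻¹ by group, s, inv_inv]
    intro n
    induction n with
    | zero => exact ⟨fun _ => by simp, fun ho => absurd ho (by decide)⟩
    | succ n ih =>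
      have e : (a * b) ^ (n + 1) * g * ((a * b) ^ (n + 1))⁻¹ =
          a * b * ((a * b) ^ n * g * ((a * b) ^ n)⁻¹) * (a * b)⁻¹ := by
        rw [pow_succ', mul_inv_rev]; simp only [mul_assoc]
      refine ⟨fun he => ?_, fun ho => ?_⟩
      · rw [e, ih.2 (by grind), s']
      · rw [e, ih.1 (by grind), s]
  have h2 := (h1 p).2 h.odd
  rw [h.pow_eq_one ha hb hn, one_mul, inv_one, mul_one] at h2
  exact eq_inv_iff_mul_eq_one.1 h2

/-- The product of a commuting pair commutes with no member outside the centraliser of one of them. -/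
theorem not_commute_prod {x y z : G} (hx : x ∈ D) (hy : y ∈ D) (hxy : x ≠ y) (hc : Commute x y)
    (hz : z ∈ D) (hn : ¬ Commute x z) : ¬ Commute (x * y) z := fun he => by
  refine h.no_twop hx hz hn hy hz (h.prod_sq hx hy hc) ?_ ?_ ?_
  · intro e1
    rw [mul_eq_one_iff_eq_inv, h.inv_eq hy] at e1
    exact hxy e1
  · exact ((Commute.refl x).mul_left hc.symm).mul_right he
  · rw [show x * y * (x * z) = x * (y * x) * z by group, ← hc.eq,
      show x * (x * y) * z = x * x * (y * z) by group, h.sq x hx, one_mul]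

theorem comm_of_comm_prod {x y d : G} (hx : x ∈ D) (hy : y ∈ D) (hxy : x ≠ y) (hc : Commute x y)
    (hd : d ∈ D) (he : Commute (x * y) d) : Commute x d ∧ Commute y d := by
  refine ⟨?_, ?_⟩ <;> by_contra hn
  · exact h.not_commute_prod hx hy hxy hc hd hn he
  · exact h.not_commute_prod hy hx hxy.symm hc.symm hd hn (hc.eq ▸ he)

/-- A member commuting with the product of two non-commuting members commutes with both. -/
theorem comm_of_comm_diff {a d d' : G} (ha : a ∈ D) (hd : d ∈ D) (hd' : d' ∈ D)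
    (hn : ¬ Commute d d') (hu : Commute a (d * d')) : Commute a d ∧ Commute a d' := by
  have hu1 : d * d' * (d * d') ≠ 1 := fun h1 => by
    have h2 := h.eq_one_of_sq (h.pow_eq_one hd hd' hn) h1
    rw [mul_eq_one_iff_eq_inv, h.inv_eq hd'] at h2
    exact hn (h2 ▸ Commute.refl d)
  refine ⟨?_, ?_⟩ <;> by_contra hc
  · exact hu1 (h.sq_eq_one_of_inverts ha hd hc hu (h.inverts hd hd'))
  · refine hu1 (h.sq_eq_one_of_inverts ha hd' hc hu ?_)
    rw [mul_inv_rev, h.inv_eq hd, h.inv_eq hd', show d' * (d * d') * d' = d' * d * (d' * d') by group,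
      h.sq d' hd', mul_one]

/-- Commuting members whose product is a member have the same commuting members. -/
theorem twins {x y a : G} (hx : x ∈ D) (hy : y ∈ D) (hc : Commute x y) (he : x * y ∈ D)
    (ha : a ∈ D) (hax : Commute x a) : Commute y a := by
  by_contra hn
  rcases h.pair (x * y) he a ha with h1 | h1
  · refine hn ?_
    have h2 := hax.mul_left h1
    rwa [← mul_assoc, h.sq x hx, one_mul] at h2
  · refine h.no_twop hy ha hn he ha (h.sq x hx) (h.ne x hx) (hc.mul_right hax) ?_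
    group

theorem comm_conj_prod {x y z : G} (hx : x ∈ D) (hy : y ∈ D) (hc : Commute x y) :
    x * y * z * (x * y)⁻¹ = x * y * z * (x * y) := by rw [h.prod_inv hx hy hc]

/-- Restriction to a subgroup. -/
theorem subgroup (H : Subgroup G) : Hyp p {a : H | (a : G) ∈ D} where
  prime := h.prime
  five := h.five
  sq := fun d hd => Subtype.ext (h.sq _ hd)
  ne := fun d hd e => h.ne _ hd (congrArg Subtype.val e)
  conj := fun g d hd => h.conj (g : G) _ hd
  pair := fun a ha b hb => by
    rcases h.pair _ ha _ hb with hc | hc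
    · exact Or.inl (Subtype.ext hc)
    · exact Or.inr (by rw [← hc, ← H.coe_mul, orderOf_coe])

theorem mk_order (N : Subgroup G) [N.Normal] {a b : G} (ha : a ∈ D) (hb : b ∈ D)
    (hn : ¬ Commute a b) (hN : a * b ∉ N) :
    orderOf ((a : G ⧸ N) * (b : G ⧸ N)) = p := by
  haveI := Fact.mk h.prime
  refine orderOf_eq_prime ?_ fun h1 => hN ((QuotientGroup.eq_one_iff _).1 h1)
  rw [← QuotientGroup.mk_mul, ← QuotientGroup.mk_pow, h.pow_eq_one ha hb hn, QuotientGroup.mk_one]

/-- Passage to a quotient in which no non-commuting pair collapses. -/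
theorem quotient (N : Subgroup G) [N.Normal]
    (hN : ∀ a ∈ D, ∀ b ∈ D, ¬ Commute a b → a * b ∉ N) :
    Hyp p {q : G ⧸ N | q ≠ 1 ∧ ∃ d ∈ D, (d : G ⧸ N) = q} where
  prime := h.prime
  five := h.five
  sq := by
    rintro _ ⟨-, d, hd, rfl⟩
    rw [← QuotientGroup.mk_mul, h.sq d hd, QuotientGroup.mk_one]
  ne := fun q hq => hq.1
  conj := by
    rintro g _ ⟨h1, d, hd, rfl⟩
    refine ⟨fun e => h1 (conj_eq_one_iff.1 e), ?_⟩
    induction g using QuotientGroup.induction_on with
    | H g => exact ⟨g * d * g⁻¹, h.conj g d hd, by simp⟩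
  pair := by
    rintro _ ⟨-, a, ha, rfl⟩ _ ⟨-, b, hb, rfl⟩
    by_cases hc : Commute a b
    · exact Or.inl (hc.map (QuotientGroup.mk' N))
    · exact Or.inr (h.mk_order N ha hb hc (hN a ha b hb hc))

end Hyp

/-- An involution permuting a set of odd size fixes a member. -/
theorem exists_fixed_of_odd [Finite G] {S : Set G} (hS : Odd S.ncard) {g : G} (hg : g * g = 1)
    (hst : ∀ a ∈ S, g * a * g⁻¹ ∈ S) : ∃ a ∈ S, g * a * g⁻¹ = a := by
  classical
  letI := Fintype.ofFinite S
  haveI := Fact.mk Nat.prime_two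
  have hinv : Function.Involutive fun a : S => (⟨g * a * g⁻¹, hst a a.2⟩ : S) := fun a => by
    refine Subtype.ext ?_
    show g * (g * a * g⁻¹) * g⁻¹ = a
    rw [show g * (g * a * g⁻¹) * g⁻¹ = g * g * a * (g * g)⁻¹ by group, hg]; simp
  obtain ⟨a, ha⟩ := Equiv.Perm.exists_fixed_point_of_prime (p := 2) (n := 1)
    (σ := hinv.toPerm _) (by
      rw [← Nat.card_eq_fintype_card, Nat.card_coe_set_eq]
      exact fun hd => Nat.not_even_iff_odd.2 hS (even_iff_two_dvd.2 hd))
    (by rw [pow_one, pow_two]; exact Equiv.ext fun a => hinv a)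
  exact ⟨a, a.2, congrArg Subtype.val ha⟩

/-- An involution permuting a finite set: the parity of the set is that of its fixed members. -/
theorem odd_of_odd_fixed [Finite G] {S : Set G} {g : G} (hg : g * g = 1)
    (hst : ∀ a ∈ S, g * a * g⁻¹ ∈ S) (hfix : Odd {a ∈ S | g * a * g⁻¹ = a}.ncard) :
    Odd S.ncard := by
  classical
  haveI := Fact.mk Nat.prime_two
  let f : Function.End S := fun a => ⟨g * a * g⁻¹, hst a a.2⟩
  letI := Fintype.ofFinite S
  have hinv : Function.Involutive (f : S → S) := fun a => by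
    refine Subtype.ext ?_
    show g * (g * a * g⁻¹) * g⁻¹ = a
    rw [show g * (g * a * g⁻¹) * g⁻¹ = g * g * a * (g * g)⁻¹ by group, hg]; simp
  have h := Equiv.Perm.card_compl_support_modEq (p := 2) (n := 1) (σ := hinv.toPerm f)
    (by rw [pow_one, pow_two]; exact Equiv.ext fun a => hinv a)
  have e : (hinv.toPerm f).supportᶜ.card = {a ∈ S | g * a * g⁻¹ = a}.ncard := by
    rw [← Nat.card_coe_set_eq, ← Nat.card_eq_finsetCard]
    refine Nat.card_congr ⟨fun a => ⟨(a.1 : G), a.1.2, ?_⟩, fun a => ⟨⟨a.1, a.2.1⟩, ?_⟩,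
      fun a => rfl, fun a => rfl⟩
    · have := a.2
      rw [Finset.mem_compl, Equiv.Perm.mem_support, not_not] at this
      exact congrArg Subtype.val this
    · rw [Finset.mem_compl, Equiv.Perm.mem_support, not_not]
      exact Subtype.ext a.2.2
  rw [e, ← Nat.card_eq_fintype_card, Nat.card_coe_set_eq] at h
  rw [Nat.odd_iff] at hfix ⊢
  rw [← hfix]
  exact h.symm

theorem odd_of_unique_fixed [Finite G] {S : Set G} {g z : G} (hg : g * g = 1)
    (hst : ∀ a ∈ S, g * a * g⁻¹ ∈ S) (hz : z ∈ S) (hzz : g * z * g⁻¹ = z)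
    (h1 : ∀ a ∈ S, g * a * g⁻¹ = a → a = z) : Odd S.ncard := by
  refine odd_of_odd_fixed hg hst ?_
  rw [show {a ∈ S | g * a * g⁻¹ = a} = {z} from
    Set.eq_singleton_iff_unique_mem.2 ⟨⟨hz, hzz⟩, fun a ha => h1 a ha.1 ha.2⟩, Set.ncard_singleton]
  exact odd_one

theorem conj_eq_iff_commute {g a : G} : g * a * g⁻¹ = a ↔ Commute g a :=
  mul_inv_eq_iff_eq_mul

end CfsgLib.TwoP
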