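import Cfsg.Agent.Lib.Involution.TwoP.Components
import Mathlib.Combinatorics.Enumerative.DoubleCounting

/-!
# A smallest configuration without witnesses: the action on the commuting classes

Commuting is an equivalence on the class, with odd classes of size divisible by `p`; the group acts
on the classes, every member fixing one class only and the number of classes being divisible by `p`.
Every involution is a member.
-/

set_option autoImplicit false
set_option linter.style.haveILetI false

namespace CfsgLib.TwoP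

open Subgroup MulAction

universe u

variable {G : Type u} [Group G]

/-- Conjugation by a subgroup on a set stable under it. -/
@[reducible] def conjActionOn (P : Subgroup G) (S : Set G)
    (h : ∀ g ∈ P, ∀ a ∈ S, g * a * g⁻¹ ∈ S) : MulAction P S where
  smul g a := ⟨g * a * (g : G)⁻¹, h g g.2 a a.2⟩
  one_smul a := Subtype.ext (show ((1 : P) : G) * a * ((1 : P) : G)⁻¹ = (a : G) by simp)
  mul_smul g g' a := Subtype.ext
    (show (g : G) * g' * a * ((g : G) * g')⁻¹ = g * (g' * a * (g' : G)⁻¹) * (g : G)⁻¹ by group)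

namespace Minimal

variable {p : ℕ} {D : Set G} (M : Minimal p D) [Finite G]
include M

theorem comm_trans {a b c : G} (ha : a ∈ D) (hb : b ∈ D) (hc : c ∈ D) (hab : Commute a b)
    (hbc : Commute b c) : Commute a c := by
  by_cases e : a = b
  · exact e ▸ hbc
  exact M.hyp.twins hb ha hab.symm (M.prod_mem hb ha (Ne.symm e) hab.symm) hc hbc

theorem rel_iff {x y : G} (hx : x ∈ D) (hy : y ∈ D) : Rel D x y ↔ Commute x y :=
  ⟨fun ⟨_, ht, h1, h2⟩ => M.comm_trans hx ht hy h1 h2, Rel.of_commute hx⟩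

/-- A member fixes only its own class. -/
theorem fix_comm {x d : G} (hx : x ∈ D) (hd : d ∈ D) (hc : Commute x (d * x * d⁻¹)) : Commute d x :=
  (M.rel_iff hd hx).1 (M.rel_of_fix hx hd (Rel.of_commute hx hc))

/-- Different members move a member outside their classes differently. -/
theorem conj_inj {x d d' : G} (hx : x ∈ D) (hd : d ∈ D) (hd' : d' ∈ D) (nd : ¬ Commute x d)
    (e : d * x * d⁻¹ = d' * x * d'⁻¹) : d = d' := by
  have h := M.hyp
  by_contra hne
  have hu : Commute x (d' * d) := by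
    show x * (d' * d) = d' * d * x
    calc x * (d' * d) = d'⁻¹ * (d' * x * d'⁻¹) * d := by rw [h.inv_eq hd']; simp [mul_assoc, ← mul_assoc d' d', h.sq d' hd']
      _ = d'⁻¹ * (d * x * d⁻¹) * d := by rw [e]
      _ = d' * d * x := by rw [h.inv_eq hd']; group
  by_cases hc : Commute d' d
  · refine nd (M.comm_trans hx (M.prod_mem hd' hd (Ne.symm hne) hc) hd hu ?_)
    exact hc.mul_left (Commute.refl d)
  · exact nd (h.comm_of_comm_diff hx hd' hd hc hu).2

/-- Every member outside the class of `x` is the conjugate of `x` by a member. -/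
theorem exists_conj {x z : G} (hx : x ∈ D) (hz : z ∈ D) (hn : ¬ Commute x z) :
    ∃ d ∈ D, ¬ Commute x d ∧ d * x * d⁻¹ = z := by
  let S : Set G := {q | q ∈ D ∧ ¬ Commute x q}
  let f : S → S := fun d =>
    ⟨d * x * (d : G)⁻¹, M.hyp.conj d x hx, fun hc => d.2.2 (M.fix_comm hx d.2.1 hc).symm⟩
  have hf : Function.Injective f := fun d d' e =>
    Subtype.ext (M.conj_inj hx d.2.1 d'.2.1 d.2.2 (congrArg Subtype.val e))
  obtain ⟨⟨d, hd, nd⟩, e⟩ := Finite.injective_iff_surjective.1 hf ⟨z, hz, hn⟩
  exact ⟨d, hd, nd, congrArg Subtype.val e⟩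

/-- Distinct members with a common effect on a class which they move do not commute. -/
theorem not_comm_of_share {x d d' : G} (hx : x ∈ D) (hd : d ∈ D) (hd' : d' ∈ D) (hne : d ≠ d')
    (nd : ¬ Commute x d) (hs : Commute (d * x * d⁻¹) (d' * x * d'⁻¹)) : ¬ Commute d d' := by
  intro hc
  have h := M.hyp
  have he := M.prod_mem hd hd' hne hc
  refine nd (M.comm_trans hx he hd (M.fix_comm hx he ?_).symm ((Commute.refl d).mul_left hc.symm))
  have h1 := (Commute.conj_iff d).2 hs
  rwa [show d * (d * x * d⁻¹) * d⁻¹ = x by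
      rw [h.inv_eq hd, show d * (d * x * d) * d = d * d * x * (d * d) by group, h.sq d hd, one_mul,
        mul_one],
    show d * (d' * x * d'⁻¹) * d⁻¹ = d * d' * x * (d * d')⁻¹ by group] at h1

theorem exists_not_comm {x : G} (hx : x ∈ D) : ∃ z ∈ D, ¬ Commute x z := by
  obtain ⟨z, hz, hn⟩ := M.exists_outside hx
  exact ⟨z, hz, fun hc => hn (Rel.of_commute hx hc)⟩

theorem exists_partner {x : G} (hx : x ∈ D) : ∃ y ∈ D, y ≠ x ∧ Commute x y := by
  obtain ⟨a, b, c, hb⟩ := M.bad
  obtain ⟨g, rfl⟩ := isConj_iff.1 (M.single a hb.hx x hx)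
  exact ⟨g * b * g⁻¹, M.hyp.conj g b hb.hy, fun e => hb.ne (by simpa using e.symm),
    (Commute.conj_iff g).2 hb.comm⟩

theorem ncard_class {a b : G} (ha : a ∈ D) (hb : b ∈ D) :
    {q | q ∈ D ∧ Commute b q}.ncard = {q | q ∈ D ∧ Commute a q}.ncard := by
  have e : ∀ x ∈ D, {q | q ∈ D ∧ Commute x q} = {q | q ∈ D ∧ Rel D x q} := fun x hx =>
    Set.ext fun q => ⟨fun hq => ⟨hq.1, (M.rel_iff hx hq.1).2 hq.2⟩,
      fun hq => ⟨hq.1, (M.rel_iff hx hq.1).1 hq.2⟩⟩
  rw [e a ha, e b hb, M.ncard_rel_class ha hb]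

theorem odd_class {x : G} (hx : x ∈ D) : Odd {q | q ∈ D ∧ Commute x q}.ncard := by
  have h := M.hyp
  let U : Subgroup G :=
    { carrier := insert 1 {q | q ∈ D ∧ Commute x q}
      one_mem' := Set.mem_insert _ _
      mul_mem' := fun {a b} ha hb => by
        rcases ha with rfl | ⟨ha, cxa⟩
        · rwa [one_mul]
        rcases hb with rfl | ⟨hb, cxb⟩
        · rw [mul_one]; exact Or.inr ⟨ha, cxa⟩
        by_cases e : a = b
        · exact Or.inl (by rw [e, h.sq b hb])
        · exact Or.inr ⟨M.prod_mem ha hb e (M.comm_trans ha hx hb cxa.symm cxb), cxa.mul_right cxb⟩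
      inv_mem' := fun {a} ha => by
        rcases ha with rfl | ⟨ha, cxa⟩
        · rw [inv_one]; exact Set.mem_insert _ _
        · rw [h.inv_eq ha]; exact Or.inr ⟨ha, cxa⟩ }
  have hc : Nat.card U = {q | q ∈ D ∧ Commute x q}.ncard + 1 := by
    rw [show Nat.card U = (insert 1 {q | q ∈ D ∧ Commute x q}).ncard from Nat.card_coe_set_eq _,
      Set.ncard_insert_of_notMem (fun h1 => h.ne 1 h1.1 rfl)]
  have h2 : orderOf (⟨x, Or.inr ⟨hx, Commute.refl x⟩⟩ : U) ∣ Nat.card U := orderOf_dvd_natCard _
  rw [← orderOf_coe, show orderOf ((⟨x, Or.inr ⟨hx, Commute.refl x⟩⟩ : U) : G) = 2 from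
    h.orderOf_eq hx, hc] at h2
  rw [Nat.odd_iff]
  omega

/-- Two non-commuting members whose product fixes a given class without their fixing it. -/
theorem exists_mover {x : G} (hx : x ∈ D) :
    ∃ d ∈ D, ∃ d' ∈ D, ¬ Commute d d' ∧ ¬ Commute x d ∧
      Commute x (d * d' * x * (d * d')⁻¹) := by
  have h := M.hyp
  obtain ⟨z, hz, hn⟩ := M.exists_not_comm hx
  obtain ⟨z2, hz2, hne, hzz⟩ := M.exists_partner hz
  have hn2 : ¬ Commute x z2 := fun hc => hn (M.comm_trans hx hz2 hz hc hzz.symm)
  obtain ⟨d, hd, nd, ed⟩ := M.exists_conj hx hz hn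
  obtain ⟨d', hd', nd', ed'⟩ := M.exists_conj hx hz2 hn2
  refine ⟨d, hd, d', hd', ?_, nd, ?_⟩
  · exact M.not_comm_of_share hx hd hd' (fun e => hne (by rw [← ed', ← e, ed])) nd (by rwa [ed, ed'])
  have h1 := (Commute.conj_iff d).2 hzz
  rwa [← ed', ← ed, show d * (d * x * d⁻¹) * d⁻¹ = x by
      rw [h.inv_eq hd, show d * (d * x * d) * d = d * d * x * (d * d) by group, h.sq d hd, one_mul,
        mul_one],
    show d * (d' * x * d'⁻¹) * d⁻¹ = d * d' * x * (d * d')⁻¹ by group] at h1

/-- The classes have size divisible by `p`. -/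
theorem dvd_class {x : G} (hx : x ∈ D) : p ∣ {q | q ∈ D ∧ Commute x q}.ncard := by
  have h := M.hyp
  haveI := Fact.mk h.prime
  obtain ⟨d, hd, d', hd', ndd, nd, hu⟩ := M.exists_mover hx
  let T : Subgroup G :=
    { carrier := {g | Commute x (g * x * g⁻¹)}
      one_mem' := by simp
      mul_mem' := fun {a b} ha hb => by
        refine M.comm_trans hx (h.conj a x hx) (h.conj (a * b) x hx) ha ?_
        simpa [mul_assoc] using (Commute.conj_iff a).2 hb
      inv_mem' := fun {a} ha => by simpa [mul_assoc] using ((Commute.conj_iff a⁻¹).2 ha).symm }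
  have hst : ∀ g ∈ zpowers (d * d'), ∀ a ∈ {q | q ∈ D ∧ Commute x q},
      g * a * g⁻¹ ∈ {q | q ∈ D ∧ Commute x q} := by
    rintro g hg a ⟨ha, cxa⟩
    have hg' : g ∈ T := (zpowers_le (H := T)).2 hu hg
    exact ⟨h.conj g a ha,
      M.comm_trans hx (h.conj g x hx) (h.conj g a ha) hg' ((Commute.conj_iff g).2 cxa)⟩
  letI := conjActionOn (zpowers (d * d')) _ hst
  by_contra hp
  have hP : IsPGroup p (zpowers (d * d')) :=
    IsPGroup.of_card (n := 1) (by rw [Nat.card_zpowers, pow_one, h.order hd hd' ndd])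
  obtain ⟨⟨a, ha, cxa⟩, hfix⟩ := hP.nonempty_fixed_point_of_prime_not_dvd_card _
    (by rwa [Nat.card_coe_set_eq])
  have h1 : Commute a (d * d') :=
    (conj_eq_iff_commute.1 (congrArg Subtype.val (hfix ⟨d * d', mem_zpowers _⟩))).symm
  exact nd (M.comm_trans hx ha hd cxa (h.comm_of_comm_diff ha hd hd' ndd h1).1)

theorem five_le_class {x : G} (hx : x ∈ D) : 5 ≤ {q | q ∈ D ∧ Commute x q}.ncard :=
  M.hyp.five.trans (Nat.le_of_dvd
    ((Set.ncard_pos (Set.toFinite _)).2 ⟨x, hx, Commute.refl x⟩) (M.dvd_class hx))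

/-- Commuting, as an equivalence on the members. -/
@[reducible] def setoid : Setoid D :=
  ⟨fun a b => Commute (a : G) b,
    ⟨fun a => Commute.refl (a : G), fun h => h.symm,
      fun {a b c} h1 h2 => M.comm_trans a.2 b.2 c.2 h1 h2⟩⟩

/-- The classes. -/
@[reducible] def Cls := Quotient M.setoid

/-- The action on the classes. -/
@[reducible] def action : MulAction G M.Cls where
  smul g := Quotient.map (fun a : D => (⟨g * a * g⁻¹, M.hyp.conj g a a.2⟩ : D))
    fun _ _ h => (Commute.conj_iff g).2 h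
  one_smul f := Quotient.inductionOn f fun a => Quotient.sound
    (show Commute ((1 : G) * a * 1⁻¹) (a : G) by simp)
  mul_smul g g' f := Quotient.inductionOn f fun a => Quotient.sound
    (show Commute (g * g' * (a : G) * (g * g')⁻¹) (g * (g' * a * g'⁻¹) * g⁻¹) by
      rw [show g * (g' * (a : G) * g'⁻¹) * g⁻¹ = g * g' * a * (g * g')⁻¹ by group])

theorem smul_eq_iff (g : G) (a b : D) :
    letI := M.action
    g • (⟦a⟧ : M.Cls) = ⟦b⟧ ↔ Commute (g * a * g⁻¹) (b : G) :=
  ⟨fun h => Quotient.exact h, fun h => Quotient.sound h⟩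

theorem transitive (f f' : M.Cls) :
    letI := M.action
    ∃ g : G, g • f = f' := by
  letI := M.action
  induction f using Quotient.inductionOn with | h a =>
  induction f' using Quotient.inductionOn with | h b =>
  obtain ⟨g, hg⟩ := isConj_iff.1 (M.single a a.2 b b.2)
  exact ⟨g, (M.smul_eq_iff g a b).2 (hg ▸ Commute.refl _)⟩

theorem exists_swap {f f' : M.Cls} (hne : f ≠ f') :
    letI := M.action
    ∃ d ∈ D, d • f = f' ∧ d • f' = f := by
  letI := M.action
  induction f using Quotient.inductionOn with | h a =>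
  induction f' using Quotient.inductionOn with | h b =>
  obtain ⟨d, hd, -, e⟩ := M.exists_conj a.2 b.2 fun hc => hne (Quotient.sound hc)
  have h1 : d • (⟦a⟧ : M.Cls) = ⟦b⟧ := (M.smul_eq_iff d a b).2 (e ▸ Commute.refl _)
  exact ⟨d, hd, h1, by rw [← h1, smul_smul, M.hyp.sq d hd, one_smul]⟩

/-- The number of classes is divisible by `p`. -/
theorem dvd_card_cls : p ∣ Nat.card M.Cls := by
  classical
  have h := M.hyp
  haveI := Fact.mk h.prime
  letI := Fintype.ofFinite G
  letI := M.action
  obtain ⟨d, _, _, hb⟩ := M.bad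
  have hd := hb.hx
  let T : Finset G := {q | q ∈ D ∧ ¬ Commute d q}
  let r : G → G → Prop := fun d' x => Commute (d * x * d⁻¹) (d' * x * d'⁻¹)
  set c := {q | q ∈ D ∧ Commute d q}.ncard with hc
  have hcard : ∀ x ∈ D, ({q | q ∈ D ∧ Commute x q} : Finset G).card = c := fun x hx => by
    rw [← Set.ncard_coe_finset, hc, ← M.ncard_class hd hx]
    simp
  -- some member shares no class movement with `d`
  obtain ⟨d', hd'T, hfree⟩ : ∃ d' ∈ T, ∀ x ∈ T, ¬ r d' x := by
    by_contra! hall
    have hT : 0 < T.card := by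
      obtain ⟨z, hz, hn⟩ := M.exists_not_comm hd
      exact Finset.card_pos.2 ⟨z, by simp [T, hz, hn]⟩
    have key : T.card * c ≤ T.card * (c - 1) := by
      refine Finset.card_mul_le_card_mul r (fun d' hd'T => ?_) fun x hxT => ?_
      · obtain ⟨x, hxT, hr⟩ := hall d' hd'T
        simp only [T, Finset.mem_filter, Finset.mem_univ, true_and] at hd'T hxT
        rw [← hcard x hxT.1]
        refine Finset.card_le_card fun q hq => ?_
        simp only [Finset.mem_filter, Finset.mem_univ, true_and] at hq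
        rw [Finset.mem_bipartiteAbove]
        refine ⟨?_, ?_⟩
        · simp only [T, Finset.mem_filter, Finset.mem_univ, true_and]
          exact ⟨hq.1, fun hh => hxT.2 (M.comm_trans hd hq.1 hxT.1 hh hq.2.symm)⟩
        · refine M.comm_trans (h.conj d q hq.1) (h.conj d x hxT.1) (h.conj d' q hq.1)
            ((Commute.conj_iff d).2 hq.2.symm) ?_
          exact M.comm_trans (h.conj d x hxT.1) (h.conj d' x hxT.1) (h.conj d' q hq.1) hr
            ((Commute.conj_iff d').2 hq.2)
      · simp only [T, Finset.mem_filter, Finset.mem_univ, true_and] at hxT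
        have hz : d * x * d⁻¹ ∈ D := h.conj d x hxT.1
        calc (T.bipartiteBelow r x).card
            ≤ (({q | q ∈ D ∧ Commute (d * x * d⁻¹) q} : Finset G).erase (d * x * d⁻¹)).card := by
              refine Finset.card_le_card_of_injOn (fun a => a * x * a⁻¹) ?_ ?_
              · intro a ha
                simp only [Finset.mem_coe, Finset.mem_bipartiteBelow, T, Finset.mem_filter,
                  Finset.mem_univ, true_and] at ha
                simp only [Finset.mem_coe, Finset.mem_erase, Finset.mem_filter, Finset.mem_univ,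
                  true_and]
                refine ⟨fun e => ha.1.2 ?_, h.conj a x hxT.1, ha.2⟩
                rw [M.conj_inj hxT.1 hd ha.1.1 (fun hh => hxT.2 hh.symm) e.symm]
              · intro a ha b hb e
                simp only [Finset.mem_coe, Finset.mem_bipartiteBelow, T, Finset.mem_filter,
                  Finset.mem_univ, true_and] at ha hb
                refine M.conj_inj hxT.1 ha.1.1 hb.1.1 (fun hh => ?_) e
                refine hxT.2 (M.fix_comm hxT.1 hd ?_)
                have h1 : Commute (d * x * d⁻¹) (a * x * a⁻¹) := ha.2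
                rw [conj_eq_iff_commute.2 hh.symm] at h1
                exact h1.symm
          _ = c - 1 := by
              rw [Finset.card_erase_of_mem (by simp [hz]), hcard _ hz]
    have hc0 : 0 < c := lt_of_lt_of_le (by norm_num) (M.five_le_class hd)
    exact absurd key (not_le.2 ((Nat.mul_lt_mul_left hT).2 (Nat.sub_one_lt_of_lt hc0)))
  simp only [T, Finset.mem_filter, Finset.mem_univ, true_and] at hd'T hfree
  obtain ⟨hd', ndd⟩ := hd'T
  -- the product of the two moves every class
  have hP : IsPGroup p (zpowers (d * d')) :=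
    IsPGroup.of_card (n := 1) (by rw [Nat.card_zpowers, pow_one, h.order hd hd' ndd])
  by_contra hp
  obtain ⟨f, hf⟩ := hP.nonempty_fixed_point_of_prime_not_dvd_card M.Cls hp
  induction f using Quotient.inductionOn with | h a =>
  have h1 : (d * d') • (⟦a⟧ : M.Cls) = ⟦a⟧ := hf ⟨d * d', mem_zpowers _⟩
  have h2 : Commute (d * a * d⁻¹) (d' * a * d'⁻¹) := by
    have h3 := (Commute.conj_iff d).2 ((M.smul_eq_iff _ a a).1 h1)
    rw [show d * (d * d' * a * (d * d')⁻¹) * d⁻¹ = d * d * (d' * a * d'⁻¹) * (d * d)⁻¹ by group,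
      h.sq d hd, one_mul, inv_one, mul_one] at h3
    exact h3.symm
  by_cases hda : Commute d a
  · rw [conj_eq_iff_commute.2 hda] at h2
    exact ndd (M.comm_trans hd a.2 hd' hda (M.fix_comm a.2 hd' h2).symm)
  · exact hfree a ⟨a.2, hda⟩ h2

/-- A non-trivial involution fixes at most one class. -/
theorem inv_fix {i : G} (hi : i * i = 1) (hi1 : i ≠ 1) {f f' : M.Cls}
    (h1 : letI := M.action; i • f = f) (h2 : letI := M.action; i • f' = f') : f = f' := by
  letI := M.action
  have h := M.hyp
  induction f using Quotient.inductionOn with | h a =>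
  induction f' using Quotient.inductionOn with | h b =>
  by_contra hne
  have nab : ¬ Commute (a : G) b := fun hc => hne (Quotient.sound hc)
  have hst : ∀ x : D, i • (⟦x⟧ : M.Cls) = ⟦x⟧ →
      ∀ q ∈ {q | q ∈ D ∧ Commute (x : G) q}, i * q * i⁻¹ ∈ {q | q ∈ D ∧ Commute (x : G) q} :=
    fun x hx q hq => ⟨h.conj i q hq.1, M.comm_trans x.2 (h.conj i x x.2) (h.conj i q hq.1)
      ((M.smul_eq_iff i x x).1 hx).symm ((Commute.conj_iff i).2 hq.2)⟩
  obtain ⟨t, ⟨ht, cat⟩, hit⟩ := exists_fixed_of_odd (M.odd_class a.2) hi (hst a h1)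
  obtain ⟨z, ⟨hz, cbz⟩, hiz⟩ := exists_fixed_of_odd (M.odd_class b.2) hi (hst b h2)
  have uniq : ∀ q ∈ D, Commute (a : G) q → Commute i q → q = t := by
    intro q hq caq ciq
    by_contra hqt
    refine hi1 (M.triv ⟨hq, ht, hz, hqt, M.comm_trans hq a.2 ht caq.symm cat, ?_, ?_⟩ ciq
      (conj_eq_iff_commute.1 hit) (conj_eq_iff_commute.1 hiz))
    · exact fun hc => nab (M.comm_trans a.2 hz b.2 (M.comm_trans a.2 hq hz caq hc) cbz.symm)
    · exact fun hc => nab (M.comm_trans a.2 hz b.2 (M.comm_trans a.2 ht hz cat hc) cbz.symm)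
  have hi' : ∀ v, i * (i * v * i⁻¹) * i⁻¹ = v := fun v => by
    rw [show i * (i * v * i⁻¹) * i⁻¹ = i * i * v * (i * i)⁻¹ by group, hi]; simp
  have pair : ∀ v ∈ D, Commute (a : G) v → v ≠ t → v * (i * v * i⁻¹) = t := by
    intro v hv cav hvt
    obtain ⟨hv', cav'⟩ := hst a h1 v ⟨hv, cav⟩
    have cvv := M.comm_trans hv a.2 hv' cav.symm cav'
    refine uniq _ (M.prod_mem hv hv' (fun e => hvt ?_) cvv) (cav.mul_right cav') ?_
    · exact uniq v hv cav (conj_eq_iff_commute.1 e.symm)
    · refine conj_eq_iff_commute.1 ?_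
      rw [show i * (v * (i * v * i⁻¹)) * i⁻¹ = i * v * i⁻¹ * (i * (i * v * i⁻¹) * i⁻¹) by group, hi']
      exact cvv.eq.symm
  have h5 := M.five_le_class a.2
  obtain ⟨y, ⟨hy, cay⟩, hyt⟩ := Set.exists_ne_of_one_lt_ncard (by omega : 1 <
    {q | q ∈ D ∧ Commute (a : G) q}.ncard) t
  obtain ⟨v, ⟨hv, cav⟩, hv3⟩ : ∃ v ∈ {q | q ∈ D ∧ Commute (a : G) q}, v ∉ ({t, y, y * t} : Set G) := by
    by_contra! hall
    have h3 := (Set.ncard_le_ncard hall).trans ((Set.ncard_insert_le _ _).trans
      (Nat.succ_le_succ ((Set.ncard_insert_le _ _).trans (Nat.succ_le_succ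
        (le_of_eq (Set.ncard_singleton _))))))
    omega
  simp only [Set.mem_insert_iff, Set.mem_singleton_iff, not_or] at hv3
  have cyv := M.comm_trans hy a.2 hv cay.symm cav
  have cyt := M.comm_trans hy a.2 ht cay.symm cat
  have cvt := M.comm_trans hv a.2 ht cav.symm cat
  have e1 : i * y * i⁻¹ = y * t := by
    rw [← pair y hy cay hyt, ← mul_assoc, h.sq y hy, one_mul]
  have e2 : i * v * i⁻¹ = v * t := by
    rw [← pair v hv cav hv3.1, ← mul_assoc, h.sq v hv, one_mul]
  have e3 : y * v = t := by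
    refine uniq _ (M.prod_mem hy hv (Ne.symm hv3.2.1) cyv) (cay.mul_right cav)
      (conj_eq_iff_commute.1 ?_)
    rw [show i * (y * v) * i⁻¹ = i * y * i⁻¹ * (i * v * i⁻¹) by group, e1, e2,
      show y * t * (v * t) = y * (t * v) * t by group, ← cvt.eq,
      show y * (v * t) * t = y * v * (t * t) by group, h.sq t ht, mul_one]
  exact hv3.2.2 (by rw [← e3, ← mul_assoc, h.sq y hy, one_mul])

/-- Every involution is a member. -/
theorem mem_of_sq {i : G} (hi : i * i = 1) (hi1 : i ≠ 1) : i ∈ D := by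
  have h := M.hyp
  letI := M.action
  by_contra hiD
  have key : ∀ f : M.Cls, i • f = f := by
    intro f
    induction f using Quotient.inductionOn with | h a =>
    have oi := Involution.Dihedral.orderOf_eq_two hi hi1
    have oa := h.orderOf_eq a.2
    have heven : Even (orderOf (i * (a : G))) :=
      Involution.Dihedral.even_of_not_isConj oi oa fun hc => by
        obtain ⟨g, hg⟩ := isConj_iff.1 hc.symm
        exact hiD (hg ▸ h.conj g a a.2)
    set w := (i * (a : G)) ^ (orderOf (i * (a : G)) / 2) with hw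
    have ow : orderOf w = 2 := Involution.Dihedral.half_orderOf heven
    have wi : Commute w i := Involution.Dihedral.half_commute_left oi oa heven
    have wa : Commute w a := Involution.Dihedral.half_commute_right oi oa heven
    have hwa : w • (⟦a⟧ : M.Cls) = ⟦a⟧ :=
      (M.smul_eq_iff w a a).2 (by rw [conj_eq_iff_commute.2 wa])
    refine M.inv_fix (Involution.Dihedral.mul_self ow) (Involution.Dihedral.ne_one ow) ?_ hwa
    rw [smul_smul, wi.eq, ← smul_smul, hwa]
  obtain ⟨x, y, z, hb⟩ := M.bad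
  exact hb.nxz (Quotient.exact (M.inv_fix hi hi1 (key ⟦⟨x, hb.hx⟩⟧) (key ⟦⟨z, hb.hz⟩⟧)))

end Minimal

end CfsgLib.TwoP
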