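import Cfsg.Agent.Lib.Involution.TwoP.Basic
import Cfsg.Agent.Lib.Involution.ZStar.Main
import Cfsg.Agent.Lib.Coprime.Generation

/-!
# A smallest configuration without witnesses: products of commuting members are members

Throughout, `Minimal` is a group in which every bad triple generates, with trivial centre and no witness.
Sharing a commuting member is then an equivalence relation; a commuting pair whose product is not a
member leads, through the centraliser of an involution, to a four group normalising a group of odd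
order, each involution of which fixes one class only.
-/

set_option autoImplicit false
set_option linter.style.haveILetI false

namespace CfsgLib.TwoP

open Subgroup

universe u

variable {G : Type u} [Group G]

/-- The products of members of a pairwise non-commuting invariant set lie in an odd order group. -/
theorem odd_card_closure_products [Finite G] {p : ℕ} {D : Set G} (h : Hyp p D) {P : Set G}
    (hP : P ⊆ D) (hst : ∀ a ∈ P, ∀ b ∈ P, a * b * a⁻¹ ∈ P)
    (hpw : ∀ a ∈ P, ∀ b ∈ P, Commute a b → a = b) :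
    Odd (Nat.card (closure {n : G | ∃ a ∈ P, ∃ b ∈ P, a * b = n})) := by
  let K := closure P
  have hinv : ∀ k : G, k ∈ K → ∀ b ∈ P, k * b * k⁻¹ ∈ P ∧ k⁻¹ * b * k ∈ P := by
    intro k hk
    induction hk using closure_induction with
    | mem a ha =>
      refine fun b hb => ⟨hst a ha b hb, ?_⟩
      have := hst a ha b hb
      rwa [h.inv_eq (hP ha)] at this ⊢
    | one => exact fun b hb => by simpa using hb
    | mul a a' _ _ iha iha' =>
      refine fun b hb => ⟨?_, ?_⟩
      · simpa [mul_assoc] using (iha _ (iha' b hb).1).1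
      · simpa [mul_assoc] using (iha' _ (iha b hb).2).2
    | inv a _ iha => exact fun b hb => ⟨by simpa using (iha b hb).2, by simpa using (iha b hb).1⟩
  let O := (Cfsg.oddCore K).map K.subtype
  have hO : Odd (Nat.card O) := by
    rw [card_map_of_injective K.subtype_injective]
    exact Involution.ZStar.odd_card_oddCore
  have hle : closure {n : G | ∃ a ∈ P, ∃ b ∈ P, a * b = n} ≤ O := by
    rw [closure_le]
    rintro _ ⟨a, ha, b, hb, rfl⟩
    by_cases hab : Commute a b
    · rw [hpw a ha b hb hab, h.sq b (hP hb)]; exact one_mem O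
    let a' : K := ⟨a, subset_closure ha⟩
    let b' : K := ⟨b, subset_closure hb⟩
    have hiso : Cfsg.IsIsolatedInvolution a' := by
      refine ⟨by rw [← orderOf_coe]; exact h.orderOf_eq (hP ha), fun g hc => Subtype.ext ?_⟩
      exact (hpw a ha _ (hinv g g.2 a ha).1 (congrArg Subtype.val hc)).symm
    have hm := Involution.ZStar.comm_mem_oddCore hiso b'
    refine ⟨a' * b', ?_, rfl⟩
    refine Involution.ZStar.mem_of_sq_mem ?_ ?_
    · rw [← orderOf_coe, K.coe_mul]
      show Odd (orderOf (a * b))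
      rw [h.order (hP ha) (hP hb) hab]
      exact h.odd
    · have e : a' * b' * (a' * b') = a' * b' * a'⁻¹ * b'⁻¹ := Subtype.ext <| by
        show a * b * (a * b) = a * b * a⁻¹ * b⁻¹
        rw [h.inv_eq (hP ha), h.inv_eq (hP hb)]; group
      rw [e]; exact hm
  exact Odd.of_dvd_nat hO (card_dvd_of_le hle)

/-- A smallest configuration. -/
structure Minimal (p : ℕ) (D : Set G) : Prop where
  hyp : Hyp p D
  noWit : NoWitness D
  gen : ∀ x y z, Bad D x y z → closure ({x, y, z} : Set G) = ⊤
  cen : center G = ⊥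
  single : ∀ a ∈ D, ∀ b ∈ D, IsConj a b
  bad : ∃ x y z, Bad D x y z

/-- Sharing a commuting member. -/
def Rel (D : Set G) (x y : G) : Prop := ∃ t ∈ D, Commute x t ∧ Commute t y

theorem Rel.symm {D : Set G} {x y : G} : Rel D x y → Rel D y x :=
  fun ⟨t, ht, h1, h2⟩ => ⟨t, ht, h2.symm, h1.symm⟩

theorem Rel.of_commute {D : Set G} {x y : G} (hx : x ∈ D) (h : Commute x y) : Rel D x y :=
  ⟨x, hx, Commute.refl x, h⟩

theorem Rel.conj {D : Set G} (hD : ∀ g : G, ∀ d ∈ D, g * d * g⁻¹ ∈ D) {x y : G} (h : Rel D x y)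
    (g : G) : Rel D (g * x * g⁻¹) (g * y * g⁻¹) := by
  obtain ⟨t, ht, h1, h2⟩ := h
  exact ⟨_, hD g t ht, (Commute.conj_iff g).2 h1, (Commute.conj_iff g).2 h2⟩

namespace Minimal

variable {p : ℕ} {D : Set G} (M : Minimal p D)
include M

/-- Only the identity centralises a bad triple. -/
theorem triv {x y z : G} (hb : Bad D x y z) {g : G} (cx : Commute g x) (cy : Commute g y)
    (cz : Commute g z) : g = 1 := by
  have h1 : (⊤ : Subgroup G) ≤ centralizer {g} := by
    rw [← M.gen x y z hb, closure_le]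
    rintro a (rfl | rfl | rfl)
    · exact mem_centralizer_singleton_iff.2 cx.eq.symm
    · exact mem_centralizer_singleton_iff.2 cy.eq.symm
    · exact mem_centralizer_singleton_iff.2 cz.eq.symm
  have h2 : g ∈ center G :=
    mem_center_iff.2 fun a => mem_centralizer_singleton_iff.1 (h1 (mem_top a))
  rwa [M.cen, mem_bot] at h2

/-- Among the members commuting with a fixed element, not commuting is transitive. -/
theorem chain {g a b c : G} (hg : g ≠ 1) (ga : Commute g a) (gb : Commute g b) (gc : Commute g c)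
    (ha : a ∈ D) (hb : b ∈ D) (hc : c ∈ D) (nab : ¬ Commute a b) (nbc : ¬ Commute b c) (hne : a ≠ c) :
    ¬ Commute a c := fun hac =>
  hg (M.triv ⟨ha, hc, hb, hne, hac, nab, fun hh => nbc hh.symm⟩ ga gc gb)

/-- A bad triple with product outside `D` gives an involution commuting with the third member, with the
product and with some common commuting member. -/
theorem half [Finite G] {x y z : G} (hb : Bad D x y z) (he : x * y ∉ D) :
    ∃ w t, w * w = 1 ∧ w ≠ 1 ∧ Commute w z ∧ Commute w (x * y) ∧ t ∈ D ∧ Commute w t ∧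
      ¬ Commute z t ∧ t ≠ x ∧ t ≠ y ∧ Commute x t ∧ Commute y t ∧
      x * y * z * (x * y)⁻¹ ∈ D ∧ ¬ Commute z (x * y * z * (x * y)⁻¹) := by
  have h := M.hyp
  obtain ⟨hx, hy, hz, hne, hc, nxz, nyz⟩ := hb
  have hb : Bad D x y z := ⟨hx, hy, hz, hne, hc, nxz, nyz⟩
  set e := x * y with he'
  have ee : e * e = 1 := h.prod_sq hx hy hc
  have ei : e⁻¹ = e := h.prod_inv hx hy hc
  have zz : z * z = 1 := h.sq z hz
  set z' := e * z * e⁻¹ with hz'e
  have hz' : z' ∈ D := h.conj e z hz
  have nzz' : ¬ Commute z z' := M.noWit x y z hb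
  set r := z * e with hr
  have hr2 : r * r = z * z' := by
    rw [hr, hz'e, ei]; group
  have hzr : z * r * z⁻¹ = r⁻¹ := by
    rw [hr, mul_inv_rev, ei, ← mul_assoc, zz, one_mul]
  have her : e * r * e⁻¹ = r⁻¹ := by
    rw [hr, mul_inv_rev z e, ei, h.inv_eq hz, show e * (z * e) * e = e * z * (e * e) by group, ee,
      mul_one]
  set w := r ^ p with hw
  have ww : w * w = 1 := by
    rw [hw, ← pow_add, ← two_mul, pow_mul, pow_two, hr2, h.pow_eq_one hz hz' nzz']
  have wi : w⁻¹ = w := inv_eq_of_mul_eq_one_right ww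
  have wcomm : ∀ v, v * r * v⁻¹ = r⁻¹ → Commute w v := fun v hv => by
    refine ((conj_eq_iff_commute).1 ?_).symm
    rw [hw, ← conj_pow, hv, inv_pow, ← hw, wi]
  have wz : Commute w z := wcomm z hzr
  have we : Commute w e := wcomm e her
  have w1 : w ≠ 1 := by
    intro h1
    have hord : Odd (orderOf r) :=
      Odd.of_dvd_nat h.odd (orderOf_dvd_of_pow_eq_one h1)
    have e1 : e ≠ 1 := fun e1 => by
      rw [he', mul_eq_one_iff_eq_inv, h.inv_eq hy] at e1
      exact hne e1
    obtain ⟨d, -, hd⟩ := Involution.Dihedral.exists_conj_of_odd (h.orderOf_eq hz)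
      (Involution.Dihedral.orderOf_eq_two ee e1) hord
    exact he (hd ▸ h.conj d z hz)
  -- the class of `z` among the members commuting with `w`
  let P : Set G := {a | a ∈ D ∧ Commute w a ∧ (a = z ∨ ¬ Commute z a)}
  have wz' : Commute w z' := by
    rw [hz'e]; exact (we.mul_right wz).mul_right we.inv_right
  have hPz : ∀ a ∈ P, z * a * z⁻¹ ∈ P := by
    rintro a ⟨ha, wa, haz⟩
    refine ⟨h.conj z a ha, (wz.mul_right wa).mul_right wz.inv_right, ?_⟩
    rcases haz with rfl | haz
    · exact Or.inl (by group)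
    · exact Or.inr fun hh => haz ((Commute.conj_iff z).1 (by simpa using hh))
  have hodd : Odd P.ncard := by
    refine odd_of_unique_fixed zz hPz (z := z) ⟨hz, wz, Or.inl rfl⟩ (by group) ?_
    rintro a ⟨ha, wa, haz⟩ hfix
    exact haz.resolve_right fun hn => hn (conj_eq_iff_commute.1 hfix)
  have hPe : ∀ a ∈ P, e * a * e⁻¹ ∈ P := by
    rintro a ⟨ha, wa, haz⟩
    refine ⟨h.conj e a ha, (we.mul_right wa).mul_right we.inv_right, ?_⟩
    rcases haz with rfl | haz
    · exact Or.inr nzz'
    · by_cases hq : e * a * e⁻¹ = z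
      · exact Or.inl hq
      refine Or.inr (M.chain w1 wz wz' ((we.mul_right wa).mul_right we.inv_right) hz hz'
        (h.conj e a ha) nzz' ?_ (Ne.symm hq))
      exact fun hh => haz ((Commute.conj_iff e).1 hh)
  obtain ⟨t, ⟨ht, wt, htz⟩, hte⟩ := exists_fixed_of_odd hodd ee hPe
  have cet : Commute e t := conj_eq_iff_commute.1 hte
  obtain ⟨cxt, cyt⟩ := h.comm_of_comm_prod hx hy hne hc ht cet
  have nzt : ¬ Commute z t := by
    rcases htz with rfl | hh
    · exact absurd cxt nxz
    · exact hh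
  refine ⟨w, t, ww, w1, wz, we, ht, wt, nzt, ?_, ?_, cxt, cyt, hz', nzz'⟩
  · rintro rfl
    refine w1 (M.triv hb wt ?_ wz)
    have := wt.mul_right we
    rwa [he', ← mul_assoc, h.sq t ht, one_mul] at this
  · rintro rfl
    refine w1 (M.triv hb ?_ wt wz)
    have := we.mul_right wt
    rwa [he', mul_assoc, h.sq t ht, mul_one] at this

/-- A bad triple's commuting pair has a third member commuting with both. -/
theorem exists_third [Finite G] {x y z : G} (hb : Bad D x y z) :
    ∃ t ∈ D, t ≠ x ∧ t ≠ y ∧ Commute x t ∧ Commute y t := by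
  by_cases he : x * y ∈ D
  · refine ⟨x * y, he, ?_, ?_, (Commute.refl x).mul_right hb.comm,
      hb.comm.symm.mul_right (Commute.refl y)⟩
    · exact fun e => M.hyp.ne y hb.hy (mul_left_cancel (e.trans (mul_one x).symm))
    · exact fun e => M.hyp.ne x hb.hx (mul_right_cancel (e.trans (one_mul y).symm))
  · obtain ⟨w, t, -, -, -, -, ht, -, -, h1, h2, h3, h4, -, -⟩ := M.half hb he
    exact ⟨t, ht, h1, h2, h3, h4⟩

/-- Non-commuting members with a common commuting member have the same commuting members. -/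
theorem same_nbr [Finite G] {r y x w : G} (hr : r ∈ D) (hy : y ∈ D) (hx : x ∈ D) (hw : w ∈ D)
    (cxr : Commute x r) (cxy : Commute x y) (n : ¬ Commute r y) (hwy : w ≠ y)
    (cwy : Commute w y) : Commute w r := by
  have h := M.hyp
  by_contra hn
  by_cases cwx : Commute w x
  · exact M.chain (h.ne x hx) cwx.symm cxr cxy hw hr hy hn n hwy cwy
  have xr : x ≠ r := fun e => n (e ▸ cxy)
  have xy : x ≠ y := fun e => cwx (e ▸ cwy)
  have hb : Bad D r x w := ⟨hr, hx, hw, xr.symm, cxr.symm, fun hh => hn hh.symm, fun hh => cwx hh.symm⟩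
  obtain ⟨t, ht, tr, tx, crt, cxt⟩ := M.exists_third hb
  have cyt : Commute y t := by
    by_contra hh
    exact M.chain (h.ne x hx) cxr cxy cxt hr hy ht n hh tr.symm crt
  have cwt : Commute w t := by
    by_contra hh
    exact M.chain (h.ne y hy) cxy.symm cwy.symm cyt hx hw ht (fun hh' => cwx hh'.symm) hh
      tx.symm cxt
  exact M.chain (h.ne t ht) cxt.symm cwt.symm crt.symm hx hw hr (fun hh' => cwx hh'.symm) hn xr cxr

theorem rel_step [Finite G] {x y s : G} (hx : x ∈ D) (hy : y ∈ D) (hs : s ∈ D) (hr : Rel D x y)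
    (hc : Commute s y) : Rel D x s := by
  obtain ⟨t, ht, h1, h2⟩ := hr
  by_cases hsy : s = y
  · exact hsy ▸ ⟨t, ht, h1, h2⟩
  by_cases hxy : Commute x y
  · exact ⟨y, hy, hxy, hc.symm⟩
  · exact Rel.of_commute hx (M.same_nbr hx hy ht hs h1.symm h2 hxy hsy hc).symm

theorem rel_trans [Finite G] {x y q : G} (hx : x ∈ D) (hy : y ∈ D) (hq : q ∈ D) (h1 : Rel D x y)
    (h2 : Rel D y q) : Rel D x q := by
  obtain ⟨s, hs, hys, hsq⟩ := h2
  exact M.rel_step hx hs hq (M.rel_step hx hy hs h1 hys.symm) hsq.symm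

theorem not_rel_of_bad [Finite G] {x y z : G} (hb : Bad D x y z) : ¬ Rel D x z := by
  rintro ⟨t, ht, h1, h2⟩
  exact hb.nyz (M.same_nbr hb.hz hb.hx ht hb.hy h2 h1.symm (fun e => hb.nxz e.symm) hb.ne.symm
    hb.comm.symm)

theorem bad_of_not_rel [Finite G] {x y z : G} (hx : x ∈ D) (hy : y ∈ D) (hz : z ∈ D) (hne : x ≠ y)
    (hc : Commute x y) (hn : ¬ Rel D x z) : Bad D x y z :=
  ⟨hx, hy, hz, hne, hc, fun e => hn (Rel.of_commute hx e), fun e => hn ⟨y, hy, hc, e⟩⟩

theorem part_trans [Finite G] {x y q : G} (hx : x ∈ D) (hy : y ∈ D) (hq : q ∈ D)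
    (h1 : Rel D x y) (n1 : ¬ Commute x y) (n2 : ¬ Commute y q) (hne : x ≠ q) : ¬ Commute x q := by
  intro hc
  obtain ⟨t, ht, a, b⟩ := h1
  exact n2 (M.same_nbr hy hx ht hq b a.symm (fun e => n1 e.symm) hne.symm hc.symm).symm

theorem exists_outside [Finite G] {x : G} (hx : x ∈ D) : ∃ z ∈ D, ¬ Rel D x z := by
  obtain ⟨a, b, c, hb⟩ := M.bad
  by_cases h1 : Rel D x a
  · exact ⟨c, hb.hz, fun h2 => M.not_rel_of_bad hb (M.rel_trans hb.hx hx hb.hz h1.symm h2)⟩
  · exact ⟨a, hb.hx, h1⟩

/-- The members related to `x` that do not commute with it, and `x` itself: invariant under an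
involution fixing the class of `x` which moves `x` to a non-commuting member. -/
theorem exists_fixed_in_part [Finite G] {x g : G} (hx : x ∈ D) (hg : g * g = 1)
    (hr : Rel D x (g * x * g⁻¹)) (hn : ¬ Commute x (g * x * g⁻¹)) :
    ∃ q ∈ D, Rel D x q ∧ Commute g q := by
  have h := M.hyp
  let P : Set G := {q | q ∈ D ∧ Rel D x q ∧ (q = x ∨ ¬ Commute x q)}
  have hodd : Odd P.ncard := by
    refine odd_of_unique_fixed (h.sq x hx) ?_ (z := x)
      ⟨hx, Rel.of_commute hx (Commute.refl x), Or.inl rfl⟩ (by group) ?_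
    · rintro q ⟨hq, hrq, hq'⟩
      refine ⟨h.conj x q hq, by simpa using hrq.conj h.conj x, ?_⟩
      rcases hq' with rfl | hq'
      · exact Or.inl (by group)
      · exact Or.inr fun hh => hq' ((Commute.conj_iff x).1 (by simpa using hh))
    · rintro q ⟨hq, hrq, hq'⟩ hfix
      exact hq'.resolve_right fun hn => hn (conj_eq_iff_commute.1 hfix)
  have hst : ∀ q ∈ P, g * q * g⁻¹ ∈ P := by
    rintro q ⟨hq, hrq, hq'⟩
    refine ⟨h.conj g q hq, M.rel_trans hx (h.conj g x hx) (h.conj g q hq) hr (hrq.conj h.conj g), ?_⟩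
    rcases hq' with rfl | hq'
    · exact Or.inr hn
    · by_cases he : g * q * g⁻¹ = x
      · exact Or.inl he
      · exact Or.inr (M.part_trans hx (h.conj g x hx) (h.conj g q hq) hr hn
          (fun hh => hq' ((Commute.conj_iff g).1 hh)) (Ne.symm he))
  obtain ⟨q, ⟨hq, hrq, -⟩, hfix⟩ := exists_fixed_of_odd hodd hg hst
  exact ⟨q, hq, hrq, conj_eq_iff_commute.1 hfix⟩

/-- A member fixes only its own class. -/
theorem rel_of_fix [Finite G] {x d : G} (hx : x ∈ D) (hd : d ∈ D)
    (hr : Rel D x (d * x * d⁻¹)) : Rel D d x := by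
  have h := M.hyp
  by_cases hdx : Commute d x
  · exact Rel.of_commute hd hdx
  have hxd : ¬ Commute x d := fun e => hdx e.symm
  have hn : ¬ Commute x (d * x * d⁻¹) := fun hc => by
    have h1 := h.prod_sq hx (h.conj d x hx) hc
    rw [h.inv_eq hd] at h1
    have h2 : x * d * (x * d) * (x * d * (x * d)) = 1 := by
      rw [show x * d * (x * d) = x * (d * x * d) by group]; exact h1
    have hp := h.pow_eq_one hx hd hxd
    have h3 : (x * d * (x * d)) ^ p = 1 := by
      rw [← pow_two, ← pow_mul, mul_comm, pow_mul, hp, one_pow]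
    have h4 := h.eq_one_of_sq hp (h.eq_one_of_sq h3 h2)
    rw [mul_eq_one_iff_eq_inv, h.inv_eq hd] at h4
    exact hxd (h4 ▸ Commute.refl x)
  obtain ⟨q, hq, hrq, hdq⟩ := M.exists_fixed_in_part hx (h.sq d hd) hr hn
  exact M.rel_trans hd hq hx (Rel.of_commute hd hdq) hrq.symm

/-- The product of a commuting pair fixes only the class of the pair. -/
theorem rel_of_prod_fix [Finite G] {x y z : G} (hx : x ∈ D) (hy : y ∈ D) (hz : z ∈ D) (hne : x ≠ y)
    (hc : Commute x y) (hr : Rel D z (x * y * z * (x * y)⁻¹)) : Rel D x z := by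
  by_contra hn
  obtain ⟨q, hq, hzq, hcq⟩ := M.exists_fixed_in_part hz (M.hyp.prod_sq hx hy hc) hr
    (M.noWit x y z (M.bad_of_not_rel hx hy hz hne hc hn))
  exact hn (M.rel_trans hx hq hz (Rel.of_commute hx (M.hyp.comm_of_comm_prod hx hy hne hc hq hcq).1)
    hzq.symm)

theorem ncard_rel_class [Finite G] {a b : G} (ha : a ∈ D) (hb : b ∈ D) :
    {q | q ∈ D ∧ Rel D b q}.ncard = {q | q ∈ D ∧ Rel D a q}.ncard := by
  obtain ⟨g, rfl⟩ := isConj_iff.1 (M.single a ha b hb)
  have h := M.hyp
  rw [← Set.ncard_image_of_injective {q | q ∈ D ∧ Rel D a q} (MulAut.conj g).injective]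
  congr 1
  ext q
  constructor
  · rintro ⟨hq, hr⟩
    exact ⟨g⁻¹ * q * g, ⟨by simpa using h.conj g⁻¹ q hq, by simpa [mul_assoc] using hr.conj h.conj g⁻¹⟩,
      by simp [mul_assoc]⟩
  · rintro ⟨r, ⟨hr1, hr2⟩, rfl⟩
    exact ⟨h.conj g r hr1, hr2.conj h.conj g⟩

/-- The product of two commuting members is a member. -/
theorem prod_mem [Finite G] {x y : G} (hx : x ∈ D) (hy : y ∈ D) (hne : x ≠ y)
    (hc : Commute x y) : x * y ∈ D := by
  have h := M.hyp
  by_contra he
  obtain ⟨z, hz, hnz⟩ := M.exists_outside hx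
  have hb := M.bad_of_not_rel hx hy hz hne hc hnz
  obtain ⟨w, t, ww, w1, wz, we, ht, wt, nzt, tx, ty, cxt, cyt, hz', nzz'⟩ := M.half hb he
  set e := x * y with he'
  have ee : e * e = 1 := h.prod_sq hx hy hc
  have hxt : Rel D x t := Rel.of_commute hx cxt
  -- the class of `x` is odd
  have hodd : Odd {q | q ∈ D ∧ Rel D x q}.ncard := by
    have hwst : ∀ q ∈ {q | q ∈ D ∧ Rel D x q}, w * q * w⁻¹ ∈ {q | q ∈ D ∧ Rel D x q} := by
      rintro q ⟨hq, hr⟩
      refine ⟨h.conj w q hq, ?_⟩
      have h1 : Rel D t (w * x * w⁻¹) := by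
        have := hxt.symm.conj h.conj w
        rwa [conj_eq_iff_commute.2 wt] at this
      exact M.rel_trans hx ht (h.conj w q hq) hxt
        (M.rel_trans ht (h.conj w x hx) (h.conj w q hq) h1 (hr.conj h.conj w))
    refine odd_of_odd_fixed ww hwst ?_
    refine odd_of_unique_fixed (h.sq t ht) ?_ (z := t) ⟨⟨ht, hxt⟩, conj_eq_iff_commute.2 wt⟩
      (by group) ?_
    · rintro q ⟨⟨hq, hr⟩, hf⟩
      refine ⟨⟨h.conj t q hq, ?_⟩, ?_⟩
      · have h1 := hr.conj h.conj t
        rw [conj_eq_iff_commute.2 cxt.symm] at h1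
        exact h1
      · exact conj_eq_iff_commute.2 ((wt.mul_right (conj_eq_iff_commute.1 hf)).mul_right wt.inv_right)
    · rintro q ⟨⟨hq, hr⟩, hf⟩ htq
      by_contra hne'
      exact w1 (M.triv (M.bad_of_not_rel hq ht hz hne' (conj_eq_iff_commute.1 htq).symm
        fun h2 => hnz (M.rel_trans hx hq hz hr h2)) (conj_eq_iff_commute.1 hf) wt wz)
  -- the three involutions
  set j := t * e with hj
  have cte : Commute t e := cxt.symm.mul_right cyt.symm
  have jt : j ≠ 1 := fun h1 => by
    rw [hj, mul_eq_one_iff_eq_inv, h.prod_inv hx hy hc] at h1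
    rw [h1] at ht; exact he ht
  have jj : j * j = 1 := by rw [hj, cte.symm.mul_mul_mul_comm, h.sq t ht, ee, one_mul]
  have e1 : e ≠ 1 := fun h1 => by
    rw [he', mul_eq_one_iff_eq_inv, h.inv_eq hy] at h1
    exact hne h1
  have te : t ≠ e := fun h1 => by rw [h1] at ht; exact he ht
  have fixj : ∀ q ∈ D, Rel D q (j * q * j⁻¹) → Rel D x q := by
    intro q hq hr
    by_contra hn
    have hst : ∀ a ∈ {a | a ∈ D ∧ Rel D q a}, j * a * j⁻¹ ∈ {a | a ∈ D ∧ Rel D q a} := by
      rintro a ⟨ha, hra⟩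
      exact ⟨h.conj j a ha, M.rel_trans hq (h.conj j q hq) (h.conj j a ha) hr (hra.conj h.conj j)⟩
    obtain ⟨a, ⟨ha, hqa⟩, hfix⟩ :=
      exists_fixed_of_odd (by rw [M.ncard_rel_class hx hq]; exact hodd) jj hst
    refine jt (M.triv (M.bad_of_not_rel hx ht ha (Ne.symm tx) cxt
      fun h2 => hn (M.rel_trans hx ha hq h2 hqa.symm)) ?_ ?_ (conj_eq_iff_commute.1 hfix))
    · exact cxt.symm.mul_left ((Commute.refl x).mul_left hc.symm)
    · exact (Commute.refl t).mul_left cte.symm
  have fixv : ∀ v, v = t ∨ v = e ∨ v = j → ∀ q ∈ D, Rel D q (v * q * v⁻¹) → Rel D x q := by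
    rintro v (rfl | rfl | rfl) q hq hr
    · exact M.rel_trans hx ht hq hxt (M.rel_of_fix hq ht hr)
    · exact M.rel_of_prod_fix hx hy hq hne hc hr
    · exact fixj q hq hr
  -- the odd group
  let P : Set G := {a | a ∈ D ∧ Commute w a ∧ (a = z ∨ ¬ Commute z a)}
  have hpw : ∀ a ∈ P, ∀ b ∈ P, Commute a b → a = b := by
    rintro a ⟨ha, wa, haz⟩ b ⟨hb', wb, hbz⟩ hab
    by_contra hne'
    rcases haz with rfl | haz
    · rcases hbz with rfl | hbz
      · exact hne' rfl
      · exact hbz hab
    rcases hbz with rfl | hbz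
    · exact haz hab.symm
    exact w1 (M.triv ⟨ha, hb', hz, hne', hab, fun hh => haz hh.symm, fun hh => hbz hh.symm⟩ wa wb wz)
  have hst : ∀ a ∈ P, ∀ b ∈ P, a * b * a⁻¹ ∈ P := by
    intro a ha' b hb'
    by_cases hab : Commute a b
    · rwa [hab.eq, mul_inv_cancel_right]
    obtain ⟨ha, wa, haz⟩ := ha'
    obtain ⟨hbD, wb, hbz⟩ := hb'
    have wq : Commute w (a * b * a⁻¹) := (wa.mul_right wb).mul_right wa.inv_right
    have naq : ¬ Commute a (a * b * a⁻¹) := fun hh => hab ((Commute.conj_iff a).1 (by simpa using hh))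
    refine ⟨h.conj a b hbD, wq, ?_⟩
    rcases haz with rfl | haz
    · exact Or.inr naq
    · by_cases hq : a * b * a⁻¹ = z
      · exact Or.inl hq
      · exact Or.inr (M.chain w1 wz wa wq hz ha (h.conj a b hbD) haz naq (Ne.symm hq))
  let N := closure {n : G | ∃ a ∈ P, ∃ b ∈ P, a * b = n}
  have hNodd : Odd (Nat.card N) := odd_card_closure_products h (fun a ha => ha.1) hst hpw
  have htP : t ∈ P := ⟨ht, wt, Or.inr nzt⟩
  have hzP : z ∈ P := ⟨hz, wz, Or.inl rfl⟩
  have heP : ∀ a ∈ P, e * a * e⁻¹ ∈ P := by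
    rintro a ⟨ha, wa, haz⟩
    have wz' : Commute w (e * z * e⁻¹) := (we.mul_right wz).mul_right we.inv_right
    refine ⟨h.conj e a ha, (we.mul_right wa).mul_right we.inv_right, ?_⟩
    rcases haz with rfl | haz
    · exact Or.inr nzz'
    · by_cases hq : e * a * e⁻¹ = z
      · exact Or.inl hq
      · exact Or.inr (M.chain w1 wz wz' ((we.mul_right wa).mul_right we.inv_right) hz hz'
          (h.conj e a ha) nzz' (fun hh => haz ((Commute.conj_iff e).1 hh)) (Ne.symm hq))
  let V := Involution.TwoGroupLifts.fourGroup e t ee (h.sq t ht) cte.symm.eq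
  have hnorm : ∀ v, (∀ a ∈ P, v * a * v⁻¹ ∈ P) → v * v = 1 → v ∈ normalizer (N : Set G) := by
    intro v hv v2
    have vi : v⁻¹ = v := inv_eq_of_mul_eq_one_right v2
    have hh : ∀ n ∈ N, v * n * v⁻¹ ∈ N := by
      intro n hn
      induction hn using closure_induction with
      | mem n hn =>
        obtain ⟨a, ha, b, hb, rfl⟩ := hn
        exact subset_closure ⟨_, hv a ha, _, hv b hb, by group⟩
      | one => simpa using one_mem N
      | mul a b _ _ iha ihb => simpa [mul_assoc] using mul_mem iha ihb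
      | inv a _ iha => simpa [mul_assoc] using inv_mem iha
    rw [mem_normalizer_iff]
    refine fun n => ⟨hh n, fun hn => ?_⟩
    have := hh _ hn
    rw [vi, show v * (v * n * v) * v = v * v * n * (v * v) by group, v2, one_mul, mul_one] at this
    exact this
  have hVN : V ≤ normalizer (N : Set G) := by
    intro v hv
    have h1 : e ∈ normalizer (N : Set G) := hnorm e heP ee
    have h2 : t ∈ normalizer (N : Set G) := hnorm t (hst t htP) (h.sq t ht)
    rcases Involution.TwoGroupLifts.mem_fourGroup.1 hv with rfl | rfl | rfl | rfl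
    · exact one_mem _
    · exact h1
    · exact h2
    · exact mul_mem h1 h2
  have hV : IsKleinFour V :=
    Involution.TwoGroupLifts.isKleinFour_of_four e1 (h.ne t ht) te.symm ee (h.sq t ht) cte.symm.eq
      fun _ => Involution.TwoGroupLifts.mem_fourGroup
  haveI : IsMulCommutative V :=
    ⟨⟨fun a b => Subtype.ext (Involution.TwoGroupLifts.commute_of_isKleinFour hV a.2 b.2)⟩⟩
  haveI := hV
  have hgen := CfsgLib.Coprime.iSup_centralizer_singleton (A := V) (K := N) IsKleinFour.not_isCyclic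
    hVN (by rw [IsKleinFour.card_four]; exact (Nat.coprime_two_left.2 hNodd).pow_left 2)
  -- the odd group fixes the class of `x`
  have hfix : ∀ n ∈ N, Rel D x (n * x * n⁻¹) := by
    let S : Subgroup G :=
      { carrier := {g | Rel D x (g * x * g⁻¹)}
        one_mem' := by simpa using Rel.of_commute hx (Commute.refl x)
        mul_mem' := fun {a b} ha hb => by
          refine M.rel_trans hx (h.conj a x hx) (h.conj (a * b) x hx) ha ?_
          simpa [mul_assoc] using hb.conj h.conj a
        inv_mem' := fun {a} ha => by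
          simpa [mul_assoc] using (ha.conj h.conj a⁻¹).symm }
    suffices N ≤ S from this
    rw [← hgen]
    refine iSup₂_le fun v hv n hn => ?_
    obtain ⟨hvV, hv1⟩ := hv
    obtain ⟨-, hn⟩ := hn
    have hvn : Commute v n := (mem_centralizer_singleton_iff.1 hn).symm
    have hcases : v = t ∨ v = e ∨ v = j := by
      rcases Involution.TwoGroupLifts.mem_fourGroup.1 hvV with rfl | rfl | rfl | rfl
      · exact absurd rfl hv1
      · exact Or.inr (Or.inl rfl)
      · exact Or.inl rfl
      · exact Or.inr (Or.inr cte.symm.eq)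
    have hvx : Commute v x := by
      rcases hcases with rfl | rfl | rfl
      · exact cxt.symm
      · exact (Commute.refl x).mul_left hc.symm
      · exact cxt.symm.mul_left ((Commute.refl x).mul_left hc.symm)
    refine fixv v hcases _ (h.conj n x hx) (Rel.of_commute (h.conj n x hx) ?_)
    rw [conj_eq_iff_commute.2 ((hvn.mul_right hvx).mul_right hvn.inv_right)]
  have h1 := hfix (t * z) (subset_closure ⟨t, htP, z, hzP, rfl⟩)
  have h2 := h1.conj h.conj t
  rw [conj_eq_iff_commute.2 cxt.symm, h.inv_eq ht, mul_inv_rev, h.inv_eq ht, h.inv_eq hz,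
    show t * (t * z * x * (z * t)) * t = t * t * (z * x * z) * (t * t) by group, h.sq t ht, one_mul,
    mul_one] at h2
  refine hnz (M.rel_of_fix hx hz ?_).symm
  rwa [h.inv_eq hz]

end Minimal

end CfsgLib.TwoP
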