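import Cfsg.Agent.Lib.Involution.TwoP.Classes

/-!
# Without a witness there is no bad triple

In a smallest configuration a Sylow `p`-subgroup of a class stabiliser fixes a set of classes on
which the members normalising it act without fixed class and swap any two; this is absurd.
-/

set_option autoImplicit false
set_option linter.style.haveILetI false

namespace CfsgLib.TwoP

open Subgroup MulAction

universe u

variable {G : Type u} [Group G]

/-- `p`-subgroups of largest possible order in a subgroup are conjugate in it. -/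
theorem exists_conj_eq_of_max [Finite G] {p : ℕ} [Fact p.Prime] {K A B : Subgroup G} (hA : A ≤ K)
    (hB : B ≤ K) (pA : IsPGroup p A) (hAB : Nat.card B = Nat.card A)
    (hmax : ∀ R ≤ K, IsPGroup p R → Nat.card R ≤ Nat.card A) :
    ∃ k ∈ K, B.map (MulAut.conj k).toMonoidHom = A := by
  classical
  have pB : IsPGroup p B := by
    obtain ⟨j, hj⟩ := IsPGroup.iff_card.1 pA
    exact IsPGroup.of_card (n := j) (hAB.trans hj)
  have key : ∀ C : Subgroup G, C ≤ K → IsPGroup p C → Nat.card C = Nat.card A →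
      ∃ S : Sylow p K, (S : Subgroup K).map K.subtype = C := by
    intro C hC pC hcard
    obtain ⟨S, hS⟩ := (pC.comap_of_injective K.subtype K.subtype_injective).exists_le_sylow
    refine ⟨S, (Subgroup.eq_of_le_of_card_ge ?_ ?_).symm⟩
    · rw [← map_subgroupOf_eq_of_le hC]
      exact map_mono hS
    · rw [hcard]
      refine hmax _ (map_subtype_le _) (S.isPGroup'.map K.subtype)
  obtain ⟨SA, hSA⟩ := key A hA pA rfl
  obtain ⟨SB, hSB⟩ := key B hB pB hAB
  obtain ⟨k, hk⟩ := MulAction.exists_smul_eq K SB SA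
  refine ⟨k, k.2, ?_⟩
  rw [← hSA, ← hSB, ← hk, Subgroup.map_map, Sylow.coe_subgroup_smul, Subgroup.pointwise_smul_def]
  ext a
  constructor
  · rintro ⟨s, hs, rfl⟩
    exact ⟨_, ⟨s, hs, rfl⟩, rfl⟩
  · rintro ⟨_, ⟨s, hs, rfl⟩, rfl⟩
    exact ⟨s, hs, rfl⟩

namespace Minimal

variable {p : ℕ} {D : Set G} (M : Minimal p D) [Finite G]
include M

theorem false : False := by
  classical
  have h := M.hyp
  haveI := Fact.mk h.prime
  letI := M.action
  obtain ⟨x, y₀, z₀, hb⟩ := M.bad
  have hgen : closure D = ⊤ := top_unique <| (M.gen x y₀ z₀ hb).symm.le.trans <| closure_mono <| by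
    rintro a (rfl | rfl | rfl)
    exacts [hb.hx, hb.hy, hb.hz]
  set a₀ : M.Cls := ⟦⟨x, hb.hx⟩⟧ with ha₀
  -- a Sylow `p`-subgroup of the stabiliser
  obtain ⟨S⟩ : Nonempty (Sylow p (stabilizer G a₀)) := inferInstance
  let P : Subgroup G := (S : Subgroup (stabilizer G a₀)).map (stabilizer G a₀).subtype
  have hPM : P ≤ stabilizer G a₀ := map_subtype_le _
  have pP : IsPGroup p P := S.isPGroup'.map _
  have hmax : ∀ f : M.Cls, ∀ R ≤ stabilizer G f, IsPGroup p R → Nat.card R ≤ Nat.card P := by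
    intro f R hR pR
    obtain ⟨g, hg⟩ := M.transitive f a₀
    have hR' : R.map (MulAut.conj g).toMonoidHom ≤ stabilizer G a₀ := by
      rintro _ ⟨r, hr, rfl⟩
      have h1 : r • f = f := hR hr
      rw [mem_stabilizer_iff]
      show (g * r * g⁻¹) • a₀ = a₀
      rw [← hg, smul_smul, inv_mul_cancel_right, ← smul_smul, h1]
    obtain ⟨T, hT⟩ := ((pR.map (MulAut.conj g).toMonoidHom).comap_of_injective
      (stabilizer G a₀).subtype (stabilizer G a₀).subtype_injective).exists_le_sylow
    calc Nat.card R = Nat.card (R.map (MulAut.conj g).toMonoidHom) :=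
          (card_map_of_injective (MulAut.conj g).injective).symm
      _ = Nat.card ((R.map (MulAut.conj g).toMonoidHom).subgroupOf (stabilizer G a₀)) :=
          (Nat.card_congr (subgroupOfEquivOfLe hR').toEquiv).symm
      _ ≤ Nat.card T := Nat.le_of_dvd Nat.card_pos (card_dvd_of_le hT)
      _ = Nat.card S := by rw [T.card_eq_multiplicity, S.card_eq_multiplicity]
      _ = Nat.card P := (card_map_of_injective (stabilizer G a₀).subtype_injective).symm
  let F : Set M.Cls := fixedPoints P M.Cls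
  have hF : ∀ {f : M.Cls}, f ∈ F → ∀ π ∈ P, π • f = f := fun hf π hπ => hf ⟨π, hπ⟩
  have haF : a₀ ∈ F := fun π => hPM π.2
  have hpF : p ∣ F.ncard := by
    rw [← Nat.card_coe_set_eq]
    exact Nat.modEq_zero_iff_dvd.1
      ((pP.card_modEq_card_fixedPoints M.Cls).symm.trans M.dvd_card_cls.modEq_zero_nat)
  have h5 : 5 ≤ F.ncard :=
    h.five.trans (Nat.le_of_dvd ((Set.ncard_pos (Set.toFinite _)).2 ⟨a₀, haF⟩) hpF)
  -- members normalising `P` swap any two fixed classes
  have hsw : ∀ f ∈ F, ∀ f' ∈ F, f ≠ f' →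
      ∃ q ∈ D, q ∈ normalizer (P : Set G) ∧ q • f = f' ∧ q • f' = f := by
    intro f hf f' hf' hne
    obtain ⟨d, hd, h1, h2⟩ := M.exists_swap hne
    let K : Subgroup G := stabilizer G f ⊓ stabilizer G f'
    have hPK : P ≤ K := fun π hπ => ⟨hF hf π hπ, hF hf' π hπ⟩
    have hBK : P.map (MulAut.conj d).toMonoidHom ≤ K := by
      rintro _ ⟨π, hπ, rfl⟩
      refine ⟨?_, ?_⟩
      · show (d * π * d⁻¹) • f = f
        rw [h.inv_eq hd, ← smul_smul, ← smul_smul, h1, hF hf' π hπ, h2]
      · show (d * π * d⁻¹) • f' = f'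
        rw [h.inv_eq hd, ← smul_smul, ← smul_smul, h2, hF hf π hπ, h1]
    obtain ⟨k, ⟨hk1, hk2⟩, hk⟩ := exists_conj_eq_of_max hPK hBK pP
      (card_map_of_injective (MulAut.conj d).injective)
      fun R hR pR => hmax f R (hR.trans inf_le_left) pR
    set g := k * d with hg
    have hgf : g • f = f' := by rw [hg, ← smul_smul, h1]; exact hk2
    have hgf' : g • f' = f := by rw [hg, ← smul_smul, h2]; exact hk1
    have hgN : g ∈ normalizer (P : Set G) := by
      rw [Subgroup.map_map] at hk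
      rw [mem_normalizer_iff]
      intro n
      constructor
      · intro hn
        have h3 : g * n * g⁻¹ ∈ P.map ((MulAut.conj k).toMonoidHom.comp (MulAut.conj d).toMonoidHom) :=
          ⟨n, hn, by show k * (d * n * d⁻¹) * k⁻¹ = g * n * g⁻¹; rw [hg]; group⟩
        rwa [hk] at h3
      · intro hn
        rw [← hk] at hn
        obtain ⟨n', hn', e⟩ := hn
        have e' : g * n' * g⁻¹ = g * n * g⁻¹ := by
          rw [← e]; show _ = k * (d * n' * d⁻¹) * k⁻¹; rw [hg]; group
        exact (mul_left_cancel (mul_right_cancel e')) ▸ hn'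
    obtain ⟨e, m, hm, hem⟩ := Nat.exists_eq_two_pow_mul_odd (orderOf_pos g).ne'
    obtain ⟨j, rfl⟩ := hm
    have hsq : g * g ∈ K :=
      ⟨show (g * g) • f = f by rw [← smul_smul, hgf, hgf'],
        show (g * g) • f' = f' by rw [← smul_smul, hgf', hgf]⟩
    have one_of : ∀ (l : ℕ), ∀ s ∈ K, s ^ 2 ^ l = 1 → s = 1 := by
      intro l
      induction l with
      | zero => intro s _ hs; simpa using hs
      | succ l ih =>
        intro s hs hs1
        rw [pow_succ', pow_mul] at hs1
        have h3 := ih _ (pow_mem hs 2) hs1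
        by_contra hne1
        exact hne (M.inv_fix (by rwa [← pow_two]) hne1 hs.1 hs.2)
    set g' := g ^ (2 * j + 1) with hg'
    have hpow : (g * g) ^ j ∈ K := pow_mem hsq j
    have eg : g' = g * (g * g) ^ j := by rw [hg', pow_succ', pow_mul, pow_two]
    have g1 : g' • f = f' := by rw [eg, ← smul_smul, show (g * g) ^ j • f = f from hpow.1, hgf]
    have g2 : g' • f' = f := by rw [eg, ← smul_smul, show (g * g) ^ j • f' = f' from hpow.2, hgf']
    have gsq : g' * g' = 1 := by
      refine one_of e _ ⟨show (g' * g') • f = f by rw [← smul_smul, g1, g2],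
        show (g' * g') • f' = f' by rw [← smul_smul, g2, g1]⟩ ?_
      rw [← pow_two, ← pow_mul, hg', ← pow_mul,
        show (2 * j + 1) * (2 * 2 ^ e) = 2 ^ e * (2 * j + 1) * 2 by ring, ← hem, pow_mul,
        pow_orderOf_eq_one, one_pow]
    have g1' : g' ≠ 1 := fun e1 => hne (by rw [← g1, e1, one_smul])
    exact ⟨g', M.mem_of_sq gsq g1', pow_mem hgN _, g1, g2⟩
  -- a member normalising `P` and fixing a fixed class centralises `P`
  have hcent : ∀ (q : G) (hq : q ∈ D), q ∈ normalizer (P : Set G) → ∀ f ∈ F, q • f = f →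
      f = ⟦⟨q, hq⟩⟧ ∧ ∀ π ∈ P, Commute π q := by
    intro q hq hqN f hf hqf
    induction f using Quotient.inductionOn with | h a =>
    have cqa : Commute q a := M.fix_comm a.2 hq ((M.smul_eq_iff q a a).1 hqf).symm
    refine ⟨Quotient.sound cqa.symm, fun π hπ => ?_⟩
    have hq' : π * q * π⁻¹ ∈ D := h.conj π q hq
    have c1 : Commute q (π * q * π⁻¹) :=
      M.comm_trans hq a.2 hq' cqa (M.comm_trans a.2 (h.conj π a a.2) hq'
        ((M.smul_eq_iff π a a).1 (hF hf π hπ)).symm ((Commute.conj_iff π).2 cqa.symm))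
    set v := q * (π * q * π⁻¹) with hv
    have hvP : v ∈ P := by
      rw [hv, show q * (π * q * π⁻¹) = q * π * q⁻¹ * π⁻¹ by rw [h.inv_eq hq]; group]
      exact mul_mem ((mem_normalizer_iff.1 hqN π).1 hπ) (inv_mem hπ)
    obtain ⟨l, hl⟩ := pP ⟨v, hvP⟩
    have hl' : v ^ p ^ l = 1 := congrArg Subtype.val hl
    have hv2 : v ^ 2 = 1 := by rw [pow_two]; exact h.prod_sq hq hq' c1
    have hv1 : v = 1 := by
      have := pow_gcd_eq_one.2 ⟨hl', hv2⟩
      rwa [Nat.Coprime.gcd_eq_one (Nat.Coprime.pow_left l (Nat.coprime_two_right.2 h.odd)),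
        pow_one] at this
    rw [hv, mul_eq_one_iff_eq_inv, h.inv_eq hq'] at hv1
    exact conj_eq_iff_commute.1 hv1.symm
  -- the normaliser is proper
  have hP1 : P ≠ ⊥ := by
    obtain ⟨d, hd, d', hd', ndd, -, hu⟩ := M.exists_mover hb.hx
    intro h0
    have h1 := hmax a₀ (zpowers (d * d')) (zpowers_le.2 ((M.smul_eq_iff _ _ _).2 hu.symm))
      (IsPGroup.of_card (n := 1) (by rw [Nat.card_zpowers, pow_one, h.order hd hd' ndd]))
    rw [h0, Nat.card_zpowers, h.order hd hd' ndd, Subgroup.card_bot] at h1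
    have := h.five
    omega
  have hN : normalizer (P : Set G) ≠ ⊤ := by
    intro htop
    refine hP1 ((eq_bot_iff_forall _).2 fun π hπ => ?_)
    have hall : ∀ f : M.Cls, f ∈ F := by
      intro f π
      obtain ⟨g, rfl⟩ := M.transitive a₀ f
      show (π : G) • g • a₀ = g • a₀
      rw [smul_smul, show (π : G) * g = g * (g⁻¹ * π * g) by group, ← smul_smul]
      congr 1
      refine hPM ?_
      have hg : g⁻¹ ∈ normalizer (P : Set G) := htop ▸ mem_top _
      simpa using (mem_normalizer_iff.1 hg π).1 π.2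
    have h1 : closure D ≤ centralizer {π} := by
      rw [closure_le]
      intro d hd
      refine mem_centralizer_singleton_iff.2 ?_
      refine ((hcent d hd (htop ▸ mem_top d) ⟦⟨d, hd⟩⟧ (hall _) ?_).2 π hπ).eq.symm
      exact (M.smul_eq_iff d ⟨d, hd⟩ ⟨d, hd⟩).2 (by simp)
    rw [hgen] at h1
    have h2 : π ∈ center G :=
      mem_center_iff.2 fun a => mem_centralizer_singleton_iff.1 (h1 (mem_top a))
    rwa [M.cen, mem_bot] at h2
  have nobad : ∀ {u v w : G}, u ∈ normalizer (P : Set G) → v ∈ normalizer (P : Set G) →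
      w ∈ normalizer (P : Set G) → ¬ Bad D u v w := fun {u v w} hu hv hw hbad =>
    hN (top_unique ((M.gen u v w hbad).symm.le.trans ((closure_le _).2 (by
      rintro a (rfl | rfl | rfl) <;> assumption))))
  -- such members move every fixed class
  have hmove : ∀ q ∈ D, q ∈ normalizer (P : Set G) → ∀ f ∈ F, q • f ≠ f := by
    intro q hq hqN f hf hqf
    obtain ⟨hfq, hπ⟩ := hcent q hq hqN f hf hqf
    have hst : ∀ g ∈ P, ∀ a ∈ {w | w ∈ D ∧ Commute q w},
        g * a * g⁻¹ ∈ {w | w ∈ D ∧ Commute q w} := fun g hg a ha =>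
      ⟨h.conj g a ha.1, by
        have := (Commute.conj_iff g).2 ha.2
        rwa [conj_eq_iff_commute.2 (hπ g hg)] at this⟩
    letI := conjActionOn P _ hst
    have hfix : (⟨q, hq, Commute.refl q⟩ : {w | w ∈ D ∧ Commute q w}) ∈
        fixedPoints P {w | w ∈ D ∧ Commute q w} :=
      fun g => Subtype.ext (conj_eq_iff_commute.2 (hπ g g.2))
    obtain ⟨⟨w, hw, cqw⟩, hwfix, hne⟩ :=
      pP.exists_fixed_point_of_prime_dvd_card_of_fixed_point _
        (by rw [Nat.card_coe_set_eq]; exact M.dvd_class hq) hfix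
    have hwπ : ∀ π ∈ P, Commute π w := fun π h1 =>
      conj_eq_iff_commute.1 (congrArg Subtype.val (hwfix ⟨π, h1⟩))
    have hwN : w ∈ normalizer (P : Set G) := centralizer_le_normalizer _
      (mem_centralizer_iff.2 fun π h1 => (hwπ π h1).eq)
    obtain ⟨f', hf', hff⟩ := Set.exists_ne_of_one_lt_ncard (by omega : 1 < F.ncard) f
    obtain ⟨i, hi, hiN, hif, -⟩ := hsw f hf f' hf' (Ne.symm hff)
    have nqi : ¬ Commute q i := fun hc => hff (by
      rw [← hif, hfq]
      exact (M.smul_eq_iff i ⟨q, hq⟩ ⟨q, hq⟩).2 (by rw [conj_eq_iff_commute.2 hc.symm]))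
    refine nobad hqN hwN hiN ⟨hq, hw, hi, fun e => hne (Subtype.ext e), cqw, nqi, fun hc => nqi ?_⟩
    exact M.comm_trans hq hw hi cqw hc
  by_cases hcomm : ∃ q ∈ D, ∃ q' ∈ D, q ∈ normalizer (P : Set G) ∧
      q' ∈ normalizer (P : Set G) ∧ q ≠ q' ∧ Commute q q'
  · -- a group of exponent two regular on the fixed classes
    obtain ⟨q, hq, q', hq', hqN, hqN', hne, hc⟩ := hcomm
    have hone : ∀ i ∈ D, i ∈ normalizer (P : Set G) → Commute q i := by
      intro i hi hiN
      by_contra hn
      exact nobad hqN hqN' hiN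
        ⟨hq, hq', hi, hne, hc, hn, fun hh => hn (M.comm_trans hq hq' hi hc hh)⟩
    let R : Subgroup G :=
      { carrier := insert 1 {i | i ∈ D ∧ i ∈ normalizer (P : Set G)}
        one_mem' := Set.mem_insert _ _
        mul_mem' := fun {a b} ha hb => by
          rcases ha with rfl | ⟨ha, haN⟩
          · rwa [one_mul]
          rcases hb with rfl | ⟨hb, hbN⟩
          · rw [mul_one]; exact Or.inr ⟨ha, haN⟩
          by_cases e : a = b
          · exact Or.inl (by rw [e, h.sq b hb])
          · exact Or.inr ⟨M.prod_mem ha hb e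
              (M.comm_trans ha hq hb (hone a ha haN).symm (hone b hb hbN)), mul_mem haN hbN⟩
        inv_mem' := fun {a} ha => by
          rcases ha with rfl | ⟨ha, haN⟩
          · rw [inv_one]; exact Set.mem_insert _ _
          · rw [h.inv_eq ha]; exact Or.inr ⟨ha, haN⟩ }
    have hRN : ∀ r : R, (r : G) ∈ normalizer (P : Set G) := by
      rintro ⟨r, rfl | hr⟩
      · exact one_mem _
      · exact hr.2
    have hRF : ∀ r : R, (r : G) • a₀ ∈ F := fun r π => by
      show (π : G) • (r : G) • a₀ = (r : G) • a₀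
      rw [smul_smul, show (π : G) * r = r * ((r : G)⁻¹ * π * r) by group, ← smul_smul]
      congr 1
      exact hPM (by simpa using (mem_normalizer_iff.1 (inv_mem (hRN r)) π).1 π.2)
    have hbij : Function.Bijective fun r : R => (⟨(r : G) • a₀, hRF r⟩ : F) := by
      refine ⟨fun r r' e => ?_, ?_⟩
      · have e' : (r : G) • a₀ = (r' : G) • a₀ := congrArg Subtype.val e
        have h1 : ((r'⁻¹ * r : R) : G) • a₀ = a₀ := by
          rw [coe_mul, coe_inv, ← smul_smul, e', inv_smul_smul]
        rcases (r'⁻¹ * r).2 with hh | ⟨hh, hhN⟩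
        · exact (inv_mul_eq_one.1 (Subtype.ext hh)).symm
        · exact absurd h1 (hmove _ hh hhN a₀ haF)
      · rintro ⟨f, hf⟩
        by_cases e : a₀ = f
        · exact ⟨1, Subtype.ext (by simp [e])⟩
        · obtain ⟨i, hi, hiN, hif, -⟩ := hsw a₀ haF f hf e
          exact ⟨⟨i, Or.inr ⟨hi, hiN⟩⟩, Subtype.ext hif⟩
    have hpR : p ∣ Nat.card R := by
      rwa [Nat.card_congr (Equiv.ofBijective _ hbij), Nat.card_coe_set_eq]
    obtain ⟨⟨r, hr⟩, hord⟩ := exists_prime_orderOf_dvd_card' p hpR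
    have h2 : r ^ 2 = 1 := by
      rcases hr with rfl | hr
      · exact one_pow 2
      · rw [pow_two]; exact h.sq r hr.1
    rw [← orderOf_coe] at hord
    have := Nat.le_of_dvd two_pos (hord ▸ orderOf_dvd_of_pow_eq_one h2)
    have := h.five
    omega
  · -- pairwise non-commuting members: their products form a group of odd order
    push Not at hcomm
    let Q : Set G := {i | i ∈ D ∧ i ∈ normalizer (P : Set G)}
    have hQst : ∀ a ∈ Q, ∀ b ∈ Q, a * b * a⁻¹ ∈ Q := fun a ha b hb' =>
      ⟨h.conj a b hb'.1, mul_mem (mul_mem ha.2 hb'.2) (inv_mem ha.2)⟩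
    let N₀ : Subgroup G := closure {n : G | ∃ a ∈ Q, ∃ b ∈ Q, a * b = n}
    have hodd : Odd (Nat.card N₀) := odd_card_closure_products h (fun a ha => ha.1) hQst
      fun a ha b hb' hab => by
        by_contra hne
        exact hcomm a ha.1 b hb'.1 ha.2 hb'.2 hne hab
    have hN₀ : N₀ ≤ normalizer (P : Set G) := by
      rw [closure_le]; rintro _ ⟨a, ha, b, hb', rfl⟩; exact mul_mem ha.2 hb'.2
    have claim : ∀ q ∈ Q, ∀ n ∈ N₀, q • a₀ ≠ n • a₀ := by
      intro q hqQ n hn heq
      have hconjN : ∀ m ∈ N₀, q * m * q⁻¹ ∈ N₀ := by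
        intro m hm
        induction hm using closure_induction with
        | mem m hm =>
          obtain ⟨a, ha, b, hb', rfl⟩ := hm
          exact subset_closure ⟨_, hQst q hqQ a ha, _, hQst q hqQ b hb', by group⟩
        | one => simpa using one_mem N₀
        | mul a b _ _ iha ihb => simpa [mul_assoc] using mul_mem iha ihb
        | inv a _ iha => simpa [mul_assoc] using inv_mem iha
      let O : Set M.Cls := orbit N₀ a₀
      have hOodd : Odd O.ncard := by
        rw [← index_stabilizer]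
        exact Odd.of_dvd_nat hodd (index_dvd_card _)
      have hqO : ∀ f ∈ O, q • f ∈ O := by
        rintro _ ⟨⟨m, hm⟩, rfl⟩
        refine ⟨⟨q * m * q⁻¹ * n, mul_mem (hconjN m hm) hn⟩, ?_⟩
        show (q * m * q⁻¹ * n) • a₀ = q • m • a₀
        rw [← smul_smul (q * m * q⁻¹), ← heq, smul_smul, inv_mul_cancel_right, smul_smul]
      haveI := Fact.mk Nat.prime_two
      letI := Fintype.ofFinite O
      have hinv : Function.Involutive fun f : O => (⟨q • (f : M.Cls), hqO f f.2⟩ : O) := fun f =>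
        Subtype.ext (show q • q • (f : M.Cls) = f by rw [smul_smul, h.sq q hqQ.1, one_smul])
      obtain ⟨⟨f, m, hfm⟩, hf⟩ := Equiv.Perm.exists_fixed_point_of_prime (p := 2) (n := 1)
        (σ := hinv.toPerm _) (by
          rw [← Nat.card_eq_fintype_card, Nat.card_coe_set_eq]
          exact fun hd => Nat.not_even_iff_odd.2 hOodd (even_iff_two_dvd.2 hd))
        (by rw [pow_one, pow_two]; exact Equiv.ext fun a => hinv a)
      refine hmove q hqQ.1 hqQ.2 f ?_ (congrArg Subtype.val hf)
      intro π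
      have hfm' : (m : G) • a₀ = f := hfm
      show (π : G) • f = f
      rw [← hfm', smul_smul, show (π : G) * m = m * ((m : G)⁻¹ * π * m) by group, ← smul_smul]
      congr 1
      exact hPM (by simpa using (mem_normalizer_iff.1 (inv_mem (hN₀ m.2)) π).1 π.2)
    obtain ⟨b, hbF, hba⟩ := Set.exists_ne_of_one_lt_ncard (by omega : 1 < F.ncard) a₀
    obtain ⟨b', hbF', hb'3⟩ := Set.exists_mem_notMem_of_ncard_lt_ncard
      (s := ({a₀, b} : Set M.Cls)) (t := F) (by rw [Set.ncard_pair (Ne.symm hba)]; omega)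
    simp only [Set.mem_insert_iff, Set.mem_singleton_iff, not_or] at hb'3
    obtain ⟨i, hi, hiN, h1, -⟩ := hsw a₀ haF b hbF (Ne.symm hba)
    obtain ⟨i', hi', hiN', h1', -⟩ := hsw a₀ haF b' hbF' (Ne.symm hb'3.1)
    obtain ⟨i'', hi'', hiN'', h1'', -⟩ := hsw b hbF b' hbF' (Ne.symm hb'3.2)
    refine claim i' ⟨hi', hiN'⟩ (i'' * i)
      (subset_closure ⟨i'', ⟨hi'', hiN''⟩, i, ⟨hi, hiN⟩, rfl⟩) ?_
    rw [← smul_smul, h1, h1'', h1']

end Minimal

/-- Without a witness there is no bad triple. -/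
theorem no_bad {p : ℕ} : ∀ (n : ℕ) {G : Type u} [Group G] [Finite G], Nat.card G ≤ n →
    ∀ {D : Set G}, Hyp p D → NoWitness D → ∀ {x y z : G}, Bad D x y z → False := by
  intro n
  induction n with
  | zero =>
    intro G _ _ hn D _ _ x y z _
    have := Nat.card_pos (α := G)
    omega
  | succ n ih =>
    intro G _ _ hn D h hW x y z hb
    by_cases hgen : ∀ x y z, Bad D x y z → closure ({x, y, z} : Set G) = ⊤
    swap
    · push Not at hgen
      obtain ⟨a, b, c, hb', hne⟩ := hgen
      set H := closure ({a, b, c} : Set G) with hH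
      have hlt : Nat.card H < Nat.card G :=
        lt_of_le_of_ne (card_le_card_group H) fun e => hne (eq_top_of_card_eq H e)
      refine ih (Nat.le_of_lt_succ (hlt.trans_le hn)) (h.subgroup H)
        (fun u v w hbad hc => hW u v w ⟨hbad.hx, hbad.hy, hbad.hz, fun e => hbad.ne (Subtype.ext e),
          congrArg Subtype.val hbad.comm, fun e => hbad.nxz (Subtype.ext e),
          fun e => hbad.nyz (Subtype.ext e)⟩ (congrArg Subtype.val hc))
        (x := ⟨a, subset_closure (by simp)⟩) (y := ⟨b, subset_closure (by simp)⟩)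
        (z := ⟨c, subset_closure (by simp)⟩) ?_
      exact ⟨hb'.hx, hb'.hy, hb'.hz, fun e => hb'.ne (congrArg Subtype.val e),
        Subtype.ext hb'.comm, fun e => hb'.nxz (congrArg Subtype.val e),
        fun e => hb'.nyz (congrArg Subtype.val e)⟩
    by_cases hcen : center G = ⊥
    swap
    · set Z := center G with hZ
      have hlt : Nat.card (G ⧸ Z) < Nat.card G := by
        rw [card_eq_card_quotient_mul_card_subgroup Z]
        exact lt_mul_of_one_lt_right Nat.card_pos (one_lt_card_iff_ne_bot _ |>.2 hcen)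
      have hN : ∀ a ∈ D, ∀ b ∈ D, ¬ Commute a b → a * b ∉ Z := fun a ha b hb' hn hm =>
        hn (h.comm_of_comm_diff ha ha hb' hn (mem_center_iff.1 hm a)).2
      have hlift : ∀ a ∈ D, ∀ b ∈ D, Commute (a : G ⧸ Z) (b : G ⧸ Z) →
          (a : G ⧸ Z) ≠ 1 → (b : G ⧸ Z) ≠ 1 → Commute a b := fun a ha b hb' hc ha1 hb1 => by
        by_contra hn
        exact (h.quotient Z hN).not_commute_of_order ⟨ha1, a, ha, rfl⟩ ⟨hb1, b, hb', rfl⟩
          (h.mk_order Z ha hb' hn (hN a ha b hb' hn)) hc
      have hne1 : ∀ a b : G, ¬ Commute a b → (a : G ⧸ Z) ≠ 1 := fun a b hn e =>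
        hn (mem_center_iff.1 ((QuotientGroup.eq_one_iff a).1 e) b).symm
      refine ih (Nat.le_of_lt_succ (hlt.trans_le hn)) (h.quotient Z hN) ?_
        (x := (x : G ⧸ Z)) (y := (y : G ⧸ Z)) (z := (z : G ⧸ Z)) ?_
      · rintro _ _ _ ⟨⟨h1, u, hu, rfl⟩, ⟨h2, v, hv, rfl⟩, ⟨h3, w, hw, rfl⟩, hne, hc, hn1, hn2⟩ hwit
        have hc' := hlift u hu v hv hc h1 h2
        have nuw : ¬ Commute u w := fun e => hn1 (e.map (QuotientGroup.mk' Z))
        have nvw : ¬ Commute v w := fun e => hn2 (e.map (QuotientGroup.mk' Z))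
        refine hW u v w ⟨hu, hv, hw, fun e => hne (e ▸ rfl), hc', nuw, nvw⟩ (hlift w hw _
          (h.conj (u * v) w hw) (by simpa using hwit) h3 ?_)
        intro e
        rw [QuotientGroup.mk_mul, QuotientGroup.mk_mul, QuotientGroup.mk_inv] at e
        exact h3 (conj_eq_one_iff.1 e)
      · refine ⟨⟨hne1 x z hb.nxz, x, hb.hx, rfl⟩, ⟨hne1 y z hb.nyz, y, hb.hy, rfl⟩,
          ⟨hne1 z x (fun e => hb.nxz e.symm), z, hb.hz, rfl⟩, ?_, hb.comm.map (QuotientGroup.mk' Z),
          fun e => hb.nxz (hlift x hb.hx z hb.hz e (hne1 x z hb.nxz)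
            (hne1 z x fun e' => hb.nxz e'.symm)),
          fun e => hb.nyz (hlift y hb.hy z hb.hz e (hne1 y z hb.nyz)
            (hne1 z x fun e' => hb.nxz e'.symm))⟩
        intro e
        refine h.not_commute_prod hb.hx hb.hy hb.ne hb.comm hb.hz hb.nxz
          (mem_center_iff.1 ((?_ : x * y ∈ Z)) z).symm
        have := QuotientGroup.eq.1 e
        rwa [h.inv_eq hb.hx] at this
    -- a smallest configuration inside one class
    let D₀ : Set G := {d | d ∈ D ∧ IsConj x d}
    have hzc : ∀ a ∈ D, ∀ b ∈ D, ¬ Commute a b → IsConj a b := fun a ha b hb' hn =>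
      Involution.Dihedral.isConj_of_odd (h.orderOf_eq ha) (h.orderOf_eq hb')
        (by rw [h.order ha hb' hn]; exact h.odd)
    have hxz := hzc x hb.hx z hb.hz hb.nxz
    have hyz := hzc y hb.hy z hb.hz hb.nyz
    have h0 : Hyp p D₀ :=
      ⟨h.prime, h.five, fun d hd => h.sq d hd.1, fun d hd => h.ne d hd.1,
        fun g d hd => ⟨h.conj g d hd.1, hd.2.trans (isConj_iff.2 ⟨g, rfl⟩)⟩,
        fun a ha b hb' => h.pair a ha.1 b hb'.1⟩
    have hsub : ∀ {u v w : G}, Bad D₀ u v w → Bad D u v w := fun hbad =>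
      ⟨hbad.hx.1, hbad.hy.1, hbad.hz.1, hbad.ne, hbad.comm, hbad.nxz, hbad.nyz⟩
    exact Minimal.false (p := p) (D := D₀)
      ⟨h0, fun u v w hbad => hW u v w (hsub hbad), fun u v w hbad => hgen u v w (hsub hbad), hcen,
        fun a ha b hb' => ha.2.symm.trans hb'.2,
        ⟨x, y, z, ⟨hb.hx, IsConj.refl x⟩, ⟨hb.hy, hxz.trans hyz.symm⟩, ⟨hb.hz, hxz⟩, hb.ne, hb.comm,
          hb.nxz, hb.nyz⟩⟩

end CfsgLib.TwoP
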