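import Cfsg.Agent.Lib.Involution.TwoP.NoWitness

/-!
# A commuting pair with product a member commutes with every third member or none

In a smallest counterexample commuting is transitive; a witness yields a non-trivial normal abelian
subgroup of exponent two, spanned by the parts of two classes fixing each other, and its quotient
is a smaller counterexample.
-/

set_option autoImplicit false
set_option linter.style.haveILetI false

namespace CfsgLib.TwoP

open Subgroup

universe u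

variable {G : Type u} [Group G]

/-- The subgroup spanned by the members commuting with a given one. -/
def span (D : Set G) (u : G) : Subgroup G := closure {q | q ∈ D ∧ Commute u q}

/-- The part of `span D u` fixing the class of `v`. -/
def spanFix (D : Set G) (u v : G) : Set G := {g | g ∈ span D u ∧ Commute v (g * v * g⁻¹)}

theorem mem_span {D : Set G} {u q : G} (hq : q ∈ D) (hc : Commute u q) : q ∈ span D u :=
  subset_closure ⟨hq, hc⟩

section Trans

variable {p : ℕ} {D : Set G} (h : Hyp p D)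
  (htr : ∀ a ∈ D, ∀ t ∈ D, ∀ b ∈ D, Commute a t → Commute t b → Commute a b)
include h htr

theorem span_comm {u a b : G} (hu : u ∈ D) (ha : a ∈ span D u) (hb : b ∈ span D u) :
    Commute a b := by
  have h1 : span D u ≤ centralizer {q | q ∈ D ∧ Commute u q} := (closure_le _).2 fun q hq =>
    mem_centralizer_iff.2 fun r hr => (htr r hr.1 u hu q hq.1 hr.2.symm hq.2).eq
  have h2 : span D u ≤ centralizer {a} := (closure_le _).2 fun q hq =>
    mem_centralizer_singleton_iff.2 (mem_centralizer_iff.1 (h1 ha) q hq)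
  exact (mem_centralizer_singleton_iff.1 (h2 hb)).symm

theorem span_sq {u a : G} (hu : u ∈ D) (ha : a ∈ span D u) : a * a = 1 := by
  induction ha using closure_induction with
  | mem q hq => exact h.sq q hq.1
  | one => exact one_mul 1
  | mul a b ha hb iha ihb =>
    rw [(span_comm h htr hu hb ha).mul_mul_mul_comm, iha, ihb, one_mul]
  | inv a _ iha => rw [← mul_inv_rev, iha, inv_one]

theorem span_conj {v g : G} (hv : v ∈ D) (hg : Commute v (g * v * g⁻¹)) {b : G}
    (hb : b ∈ span D v) : g * b * g⁻¹ ∈ span D v := by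
  induction hb using closure_induction with
  | mem q hq =>
    exact mem_span (h.conj g q hq.1)
      (htr v hv (g * v * g⁻¹) (h.conj g v hv) _ (h.conj g q hq.1) hg ((Commute.conj_iff g).2 hq.2))
  | one => simpa using one_mem (span D v)
  | mul a b _ _ iha ihb => simpa [mul_assoc] using mul_mem iha ihb
  | inv a _ iha => simpa [mul_assoc] using inv_mem iha

theorem spanFix_one {u v : G} : (1 : G) ∈ spanFix D u v := ⟨one_mem _, by simp⟩

theorem spanFix_mul {u v a b : G} (hv : v ∈ D) (ha : a ∈ spanFix D u v) (hb : b ∈ spanFix D u v) :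
    a * b ∈ spanFix D u v := by
  refine ⟨mul_mem ha.1 hb.1, ?_⟩
  refine htr v hv (a * v * a⁻¹) (h.conj a v hv) _ (h.conj (a * b) v hv) ha.2 ?_
  simpa [mul_assoc] using (Commute.conj_iff a).2 hb.2

theorem spanFix_inv {u v a : G} (ha : a ∈ spanFix D u v) : a⁻¹ ∈ spanFix D u v :=
  ⟨inv_mem ha.1, by simpa [mul_assoc] using ((Commute.conj_iff a⁻¹).2 ha.2).symm⟩

end Trans

/-- A bad triple whose commuting pair has product a member. -/
def BadProd (D : Set G) (x y z : G) : Prop := Bad D x y z ∧ x * y ∈ D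

/-- The image of a bad triple with product a member. -/
theorem badProd_quotient {p : ℕ} {D : Set G} (h : Hyp p D) (N : Subgroup G) [N.Normal]
    (hN : ∀ a ∈ D, ∀ b ∈ D, ¬ Commute a b → a * b ∉ N)
    (hmem : ∀ a ∈ D, ∀ b ∈ D, ¬ Commute a b → a ∉ N) {x y z : G} (hb : BadProd D x y z) :
    BadProd {q : G ⧸ N | q ≠ 1 ∧ ∃ d ∈ D, (d : G ⧸ N) = q} (x : G ⧸ N) (y : G ⧸ N) (z : G ⧸ N) := by
  obtain ⟨hb, he⟩ := hb
  have ne1 : ∀ a ∈ D, ∀ b ∈ D, ¬ Commute a b → (a : G ⧸ N) ≠ 1 := fun a ha b hb' hn e =>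
    hmem a ha b hb' hn ((QuotientGroup.eq_one_iff a).1 e)
  have hD : ∀ a ∈ D, ∀ b ∈ D, ¬ Commute a b →
      (a : G ⧸ N) ∈ {q : G ⧸ N | q ≠ 1 ∧ ∃ d ∈ D, (d : G ⧸ N) = q} :=
    fun a ha b hb' hn => ⟨ne1 a ha b hb' hn, a, ha, rfl⟩
  have hx := hD x hb.hx z hb.hz hb.nxz
  have hy := hD y hb.hy z hb.hz hb.nyz
  have hz := hD z hb.hz x hb.hx fun e => hb.nxz e.symm
  have nxy : ¬ Commute (x * y) z := h.not_commute_prod hb.hx hb.hy hb.ne hb.comm hb.hz hb.nxz
  have hxy := hD (x * y) he z hb.hz nxy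
  refine ⟨⟨hx, hy, hz, fun e => ?_, hb.comm.map (QuotientGroup.mk' N),
    fun e => (h.quotient N hN).not_commute_of_order hx hz
      (h.mk_order N hb.hx hb.hz hb.nxz (hN x hb.hx z hb.hz hb.nxz)) e,
    fun e => (h.quotient N hN).not_commute_of_order hy hz
      (h.mk_order N hb.hy hb.hz hb.nyz (hN y hb.hy z hb.hz hb.nyz)) e⟩, ?_⟩
  · refine hmem (x * y) he z hb.hz nxy ?_
    have := QuotientGroup.eq.1 e
    rwa [h.inv_eq hb.hx] at this
  · rw [← QuotientGroup.mk_mul]; exact hxy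

/-- A smallest counterexample. -/
structure MinimalProd (p : ℕ) (D : Set G) : Prop where
  hyp : Hyp p D
  gen : ∀ x y z, BadProd D x y z → closure ({x, y, z} : Set G) = ⊤
  cen : center G = ⊥
  single : ∀ a ∈ D, ∀ b ∈ D, IsConj a b
  bad : ∃ x y z, BadProd D x y z

namespace MinimalProd

variable {p : ℕ} {D : Set G} (M : MinimalProd p D)
include M

theorem triv {x y z : G} (hb : BadProd D x y z) {g : G} (cx : Commute g x) (cy : Commute g y)
    (cz : Commute g z) : g = 1 := by
  have h1 : (⊤ : Subgroup G) ≤ centralizer {g} := by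
    rw [← M.gen x y z hb, closure_le]
    rintro a (rfl | rfl | rfl)
    · exact mem_centralizer_singleton_iff.2 cx.eq.symm
    · exact mem_centralizer_singleton_iff.2 cy.eq.symm
    · exact mem_centralizer_singleton_iff.2 cz.eq.symm
  have h2 : g ∈ center G :=
    mem_center_iff.2 fun a => mem_centralizer_singleton_iff.1 (h1 (mem_top a))
  rwa [M.cen, mem_bot] at h2

theorem exists_mate {a : G} (ha : a ∈ D) : ∃ y ∈ D, y ≠ a ∧ Commute a y ∧ a * y ∈ D := by
  obtain ⟨x, y, z, hb, he⟩ := M.bad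
  obtain ⟨g, rfl⟩ := isConj_iff.1 (M.single x hb.hx a ha)
  refine ⟨g * y * g⁻¹, M.hyp.conj g y hb.hy, fun e => hb.ne (by simpa using e.symm),
    (Commute.conj_iff g).2 hb.comm, ?_⟩
  simpa [mul_assoc] using M.hyp.conj g _ he

theorem bad_of_mate {a y b : G} (ha : a ∈ D) (hy : y ∈ D) (hb : b ∈ D) (hne : y ≠ a)
    (hc : Commute a y) (he : a * y ∈ D) (hn : ¬ Commute a b) : BadProd D a y b :=
  ⟨⟨ha, hy, hb, hne.symm, hc, hn,
    fun e => hn (M.hyp.twins hy ha hc.symm (hc.eq ▸ he) hb e)⟩, he⟩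

theorem trans {a t b : G} (ha : a ∈ D) (ht : t ∈ D) (hb : b ∈ D) (h1 : Commute a t)
    (h2 : Commute t b) : Commute a b := by
  by_contra hn
  obtain ⟨y, hy, hne, hc, he⟩ := M.exists_mate ha
  exact M.hyp.ne t ht (M.triv (M.bad_of_mate ha hy hb hne hc he hn) h1.symm
    (M.hyp.twins ha hy hc he ht h1).symm h2)

/-- A non-trivial element of a span commutes only with the members of that class. -/
theorem comm_of_span {u q d : G} (hu : u ∈ D) (hq : q ∈ span D u) (h1 : q ≠ 1) (hd : d ∈ D)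
    (hc : Commute q d) : Commute u d := by
  by_contra hn
  obtain ⟨y, hy, hne, hcy, he⟩ := M.exists_mate hu
  have htr := fun a (ha : a ∈ D) t ht b hb => M.trans (a := a) (t := t) (b := b) ha ht hb
  exact h1 (M.triv (M.bad_of_mate hu hy hd hne hcy he hn)
    (span_comm M.hyp htr hu hq (mem_span hu (Commute.refl u)))
    (span_comm M.hyp htr hu hq (mem_span hy hcy)) hc)

/-- Conjugation by a member of the class of `u` of the part of the class of `v` fixing `u`. -/
theorem conj_spanFix {u v w q : G} (hu : u ∈ D) (hv : v ∈ D)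
    (hw : w ∈ D) (huw : Commute u w) (hq : q ∈ spanFix D v u) :
    ∃ g ∈ spanFix D u v, w * q * w⁻¹ = g * q := by
  have h := M.hyp
  have htr := fun a (ha : a ∈ D) t ht b hb => M.trans (a := a) (t := t) (b := b) ha ht hb
  by_cases h1 : q = 1
  · exact ⟨1, spanFix_one h htr, by simp [h1]⟩
  have qq : q * q = 1 := span_sq h htr hv hq.1
  have qi : q⁻¹ = q := inv_eq_of_mul_eq_one_right qq
  set g := w * q * w⁻¹ * q with hg
  have hgu : g ∈ span D u := by
    rw [hg, show w * q * w⁻¹ * q = w * (q * w⁻¹ * q) by group, h.inv_eq hw]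
    refine mul_mem (mem_span hw huw) ?_
    have := span_conj h htr hu hq.2 (mem_span hw huw)
    rwa [qi] at this
  have gg := span_sq h htr hu hgu
  have cgq : Commute g q := by
    have e : q * g * q = g⁻¹ := by
      rw [hg, mul_inv_rev, conj_inv, qi, mul_assoc q, mul_assoc (w * q * w⁻¹) q q, qq, mul_one]
    rw [inv_eq_of_mul_eq_one_right gg] at e
    show g * q = q * g
    calc g * q = q * g * q * q := by rw [e]
      _ = q * g := by rw [mul_assoc (q * g), qq, mul_one]
  refine ⟨g, ⟨hgu, ?_⟩, by rw [hg, mul_assoc (w * q * w⁻¹), qq, mul_one]⟩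
  refine M.comm_of_span hv hq.1 h1 (h.conj g v hv) ?_
  exact (cgq.symm.mul_right (span_comm h htr hv hq.1 (mem_span hv (Commute.refl v)))).mul_right
    cgq.symm.inv_right

/-- The two parts commute. -/
theorem comm_spanFix {u v a b : G} (hu : u ∈ D) (hv : v ∈ D)
    (hn : ¬ Commute u v) (ha : a ∈ spanFix D u v) (hb : b ∈ spanFix D v u) : Commute a b := by
  have h := M.hyp
  have htr := fun a (ha : a ∈ D) t ht b hb => M.trans (a := a) (t := t) (b := b) ha ht hb
  set c := a * b * a⁻¹ * b⁻¹ with hc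
  have h1 : c ∈ span D u := by
    rw [hc, show a * b * a⁻¹ * b⁻¹ = a * (b * a⁻¹ * b⁻¹) by group]
    exact mul_mem ha.1 (span_conj h htr hu hb.2 (inv_mem ha.1))
  have h2 : c ∈ span D v := mul_mem (span_conj h htr hv ha.2 hb.1) (inv_mem hb.1)
  have hc1 : c = 1 := by
    by_contra hne
    exact hn (M.comm_of_span hu h1 hne hv (span_comm h htr hv h2 (mem_span hv (Commute.refl v))))
  rw [hc, mul_inv_eq_one, mul_inv_eq_iff_eq_mul] at hc1
  exact hc1

/-- A smallest counterexample yields a smaller one. -/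
theorem descend [Finite G] : ∃ N : Subgroup G, ∃ _ : N.Normal, N ≠ ⊥ ∧
    (∀ a ∈ D, ∀ b ∈ D, ¬ Commute a b → a * b ∉ N) ∧
    (∀ a ∈ D, ∀ b ∈ D, ¬ Commute a b → a ∉ N) := by
  have h := M.hyp
  have htr := fun a (ha : a ∈ D) t ht b hb => M.trans (a := a) (t := t) (b := b) ha ht hb
  have hw : ¬ NoWitness D := fun hW => by
    obtain ⟨x, y, z, hb, -⟩ := M.bad
    exact no_bad _ le_rfl h hW hb
  simp only [NoWitness, not_forall, not_not] at hw
  obtain ⟨x, b, z, hb, hwit⟩ := hw
  obtain ⟨hx, hb', hz, hne, hc, nxz, nbz⟩ := hb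
  obtain ⟨y, hy, hyne, hcy, hey⟩ := M.exists_mate hx
  let Q : Subgroup G :=
    { carrier := {g | ∃ r ∈ spanFix D x z, ∃ s ∈ spanFix D z x, r * s = g}
      one_mem' := ⟨1, spanFix_one h htr, 1, spanFix_one h htr, one_mul 1⟩
      mul_mem' := by
        rintro _ _ ⟨r, hr, s, hs, rfl⟩ ⟨r', hr', s', hs', rfl⟩
        exact ⟨r * r', spanFix_mul h htr hz hr hr', s * s', spanFix_mul h htr hx hs hs',
          (M.comm_spanFix hx hz nxz hr' hs).mul_mul_mul_comm r s'⟩
      inv_mem' := by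
        rintro _ ⟨r, hr, s, hs, rfl⟩
        exact ⟨r⁻¹, spanFix_inv h htr hr, s⁻¹, spanFix_inv h htr hs,
          by rw [(M.comm_spanFix hx hz nxz hr hs).eq, mul_inv_rev]⟩ }
  have hl : ∀ {r}, r ∈ spanFix D x z → r ∈ Q := fun {r} hr =>
    ⟨r, hr, 1, spanFix_one h htr, mul_one r⟩
  have hr : ∀ {s}, s ∈ spanFix D z x → s ∈ Q := fun {s} hs =>
    ⟨1, spanFix_one h htr, s, hs, one_mul s⟩
  have hnx : ∀ w ∈ D, Commute x w → ∀ g ∈ Q, w * g * w⁻¹ ∈ Q := by
    rintro w hw hxw _ ⟨r, hr', s, hs, rfl⟩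
    rw [show w * (r * s) * w⁻¹ = w * r * w⁻¹ * (w * s * w⁻¹) by group,
      (span_comm h htr hx (mem_span hw hxw) hr'.1).eq, mul_inv_cancel_right]
    obtain ⟨g, hg, e⟩ := M.conj_spanFix hx hz hw hxw hs
    rw [e]
    exact mul_mem (hl hr') (mul_mem (hl hg) (hr hs))
  have hnz : ∀ g ∈ Q, z * g * z⁻¹ ∈ Q := by
    rintro _ ⟨r, hr', s, hs, rfl⟩
    rw [show z * (r * s) * z⁻¹ = z * r * z⁻¹ * (z * s * z⁻¹) by group,
      (span_comm h htr hz (mem_span hz (Commute.refl z)) hs.1).eq, mul_inv_cancel_right]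
    obtain ⟨g, hg, e⟩ := M.conj_spanFix hz hx hz (Commute.refl z) hr'
    rw [e]
    exact mul_mem (mul_mem (hr hg) (hl hr')) (hr hs)
  have hnorm : ∀ w ∈ D, (∀ g ∈ Q, w * g * w⁻¹ ∈ Q) → w ∈ normalizer (Q : Set G) := by
    intro w hw hwQ
    rw [mem_normalizer_iff]
    refine fun g => ⟨hwQ g, fun hg => ?_⟩
    have := hwQ _ hg
    rw [h.inv_eq hw, show w * (w * g * w) * w = w * w * g * (w * w) by group, h.sq w hw, one_mul,
      mul_one] at this
    exact this
  have hQn : Q.Normal := normalizer_eq_top_iff.1 <| top_unique <| by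
    rw [← M.gen x y z (M.bad_of_mate hx hy hz hyne hcy hey nxz), closure_le]
    rintro w (rfl | rfl | rfl)
    · exact hnorm _ hx (hnx _ hx (Commute.refl _))
    · exact hnorm _ hy (hnx _ hy hcy)
    · exact hnorm _ hz hnz
  have hQ2 : ∀ g ∈ Q, g * g = 1 := by
    rintro _ ⟨r, hr', s, hs, rfl⟩
    rw [(M.comm_spanFix hx hz nxz hr' hs).symm.mul_mul_mul_comm, span_sq h htr hx hr'.1,
      span_sq h htr hz hs.1, one_mul]
  refine ⟨Q, hQn, fun h0 => ?_, fun a ha d hd hn hm => ?_, fun a ha d hd hn hm => ?_⟩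
  · have he : x * b ∈ Q :=
      hl ⟨mul_mem (mem_span hx (Commute.refl x)) (mem_span hb' hc), hwit⟩
    rw [h0, mem_bot, mul_eq_one_iff_eq_inv, h.inv_eq hb'] at he
    exact hne he
  · refine hn ?_
    have h1 := h.eq_one_of_sq (h.pow_eq_one ha hd hn) (hQ2 _ hm)
    rw [mul_eq_one_iff_eq_inv, h.inv_eq hd] at h1
    exact h1 ▸ Commute.refl d
  · refine hn ?_
    have hm2 : a * d * (a * d) ∈ Q := by
      rw [show a * d * (a * d) = a * (d * a * d) by group]
      refine mul_mem hm ?_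
      have := hQn.conj_mem a hm d
      rwa [h.inv_eq hd] at this
    have h3 : (a * d * (a * d)) ^ p = 1 := by
      rw [← pow_two, ← pow_mul, mul_comm, pow_mul, h.pow_eq_one ha hd hn, one_pow]
    have h1 := h.eq_one_of_sq (h.pow_eq_one ha hd hn) (h.eq_one_of_sq h3 (hQ2 _ hm2))
    rw [mul_eq_one_iff_eq_inv, h.inv_eq hd] at h1
    exact h1 ▸ Commute.refl d

end MinimalProd

/-- A commuting pair with product a member and a member commuting with neither do not exist. -/
theorem no_bad_prod {p : ℕ} : ∀ (n : ℕ) {G : Type u} [Group G] [Finite G], Nat.card G ≤ n →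
    ∀ {D : Set G}, Hyp p D → ∀ {x y z : G}, BadProd D x y z → False := by
  intro n
  induction n with
  | zero =>
    intro G _ _ hn D _ x y z _
    have := Nat.card_pos (α := G)
    omega
  | succ n ih =>
    intro G _ _ hn D h x y z hb
    by_cases hgen : ∀ x y z, BadProd D x y z → closure ({x, y, z} : Set G) = ⊤
    swap
    · push Not at hgen
      obtain ⟨a, b, c, ⟨hb', he'⟩, hne⟩ := hgen
      set H := closure ({a, b, c} : Set G) with hH
      have hlt : Nat.card H < Nat.card G :=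
        lt_of_le_of_ne (card_le_card_group H) fun e => hne (eq_top_of_card_eq H e)
      exact ih (Nat.le_of_lt_succ (hlt.trans_le hn)) (h.subgroup H)
        (x := ⟨a, subset_closure (by simp)⟩) (y := ⟨b, subset_closure (by simp)⟩)
        (z := ⟨c, subset_closure (by simp)⟩)
        ⟨⟨hb'.hx, hb'.hy, hb'.hz, fun e => hb'.ne (congrArg Subtype.val e), Subtype.ext hb'.comm,
          fun e => hb'.nxz (congrArg Subtype.val e), fun e => hb'.nyz (congrArg Subtype.val e)⟩, he'⟩
    have hquot : ∀ N : Subgroup G, ∀ [N.Normal], N ≠ ⊥ →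
        ∀ {D' : Set G}, Hyp p D' → (∀ a ∈ D', ∀ b ∈ D', ¬ Commute a b → a * b ∉ N) →
        (∀ a ∈ D', ∀ b ∈ D', ¬ Commute a b → a ∉ N) → ∀ {x y z : G}, BadProd D' x y z → False := by
      intro N _ hN0 D' h' hN hmem x y z hb
      have hlt : Nat.card (G ⧸ N) < Nat.card G := by
        rw [card_eq_card_quotient_mul_card_subgroup N]
        exact lt_mul_of_one_lt_right Nat.card_pos (one_lt_card_iff_ne_bot _ |>.2 hN0)
      exact ih (Nat.le_of_lt_succ (hlt.trans_le hn)) (h'.quotient N hN)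
        (badProd_quotient h' N hN hmem hb)
    by_cases hcen : center G = ⊥
    swap
    · exact hquot (center G) hcen h
        (fun a ha b hb' hn hm => hn (h.comm_of_comm_diff ha ha hb' hn (mem_center_iff.1 hm a)).2)
        (fun a ha b hb' hn hm => hn (mem_center_iff.1 hm b).symm) hb
    let D₀ : Set G := {d | d ∈ D ∧ IsConj x d}
    have hzc : ∀ a ∈ D, ∀ b ∈ D, ¬ Commute a b → IsConj a b := fun a ha b hb' hn =>
      Involution.Dihedral.isConj_of_odd (h.orderOf_eq ha) (h.orderOf_eq hb')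
        (by rw [h.order ha hb' hn]; exact h.odd)
    obtain ⟨hb, he⟩ := hb
    have hxz := hzc x hb.hx z hb.hz hb.nxz
    have hyz := hzc y hb.hy z hb.hz hb.nyz
    have hez := hzc (x * y) he z hb.hz (h.not_commute_prod hb.hx hb.hy hb.ne hb.comm hb.hz hb.nxz)
    have h0 : Hyp p D₀ :=
      ⟨h.prime, h.five, fun d hd => h.sq d hd.1, fun d hd => h.ne d hd.1,
        fun g d hd => ⟨h.conj g d hd.1, hd.2.trans (isConj_iff.2 ⟨g, rfl⟩)⟩,
        fun a ha b hb' => h.pair a ha.1 b hb'.1⟩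
    have hb0 : BadProd D₀ x y z :=
      ⟨⟨⟨hb.hx, IsConj.refl x⟩, ⟨hb.hy, hxz.trans hyz.symm⟩, ⟨hb.hz, hxz⟩, hb.ne, hb.comm,
        hb.nxz, hb.nyz⟩, he, hxz.trans hez.symm⟩
    have M : MinimalProd p D₀ :=
      ⟨h0, fun u v w hbad => hgen u v w ⟨⟨hbad.1.hx.1, hbad.1.hy.1, hbad.1.hz.1, hbad.1.ne,
          hbad.1.comm, hbad.1.nxz, hbad.1.nyz⟩, hbad.2.1⟩,
        hcen, fun a ha b hb' => ha.2.symm.trans hb'.2, ⟨x, y, z, hb0⟩⟩
    obtain ⟨N, hNn, hN0, hN, hmem⟩ := M.descend
    exact hquot N hN0 h0 hN hmem hb0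

end CfsgLib.TwoP
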