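import Cfsg.Agent.Lib.Involution.TwoP.Product
import Cfsg.Agent.Lib.Involution.BaerSuzuki
import Cfsg.Agent.Lib.OddOrder.Final.Main
import Cfsg.Agent.Lib.Solvable.Cores
import Cfsg.Prelude.Def_SporadicB

/-!
# Aschbacher's rank three classes of involutions

In a group with trivial solvable radical, a generating class of involutions on which the centraliser
of a member has three orbits consists of 3-transpositions.
-/

set_option autoImplicit false
set_option linter.style.haveILetI false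

namespace CfsgLib.TwoP

open Subgroup

universe u

variable {G : Type u} [Group G]

/-- A class with transitive action on commuting and on non-commuting pairs, in a group without
solvable normal subgroup. -/
structure RankThree (D : Set G) : Prop where
  sol : ∀ N : Subgroup G, N.Normal → Group.IsSolvable ↥N → N = ⊥
  two : ∀ d ∈ D, orderOf d = 2
  conj : ∀ g : G, ∀ d ∈ D, g * d * g⁻¹ ∈ D
  single : ∀ a ∈ D, ∀ b ∈ D, ∃ g : G, g * a * g⁻¹ = b
  gen : closure D = ⊤
  nonempty : D.Nonempty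
  trans : ∀ x ∈ D, ∀ w ∈ D, w ≠ x → ∀ w' ∈ D, w' ≠ x → (Commute x w ↔ Commute x w') →
    ∃ g : G, Commute g x ∧ g * w * g⁻¹ = w'
  edge : ∀ x ∈ D, ∃ y ∈ D, y ≠ x ∧ Commute x y
  nonedge : ∀ x ∈ D, ∃ z ∈ D, ¬ Commute x z

/-- The orbit description gives the transitivity data. -/
theorem rankThree_of_orbits [Finite G]
    (hsol : ∀ N : Subgroup G, N.Normal → Group.IsSolvable ↥N → N = ⊥) {D : Set G}
    (hinv : ∀ d ∈ D, orderOf d = 2) (hconj : ∃ d ∈ D, D = conjugatesOf d)
    (hgen : Subgroup.closure D = ⊤)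
    (hrank : ∀ x ∈ D, ∃ y ∈ D, ∃ z ∈ D,
      {w : G | ∃ g : G, Commute g x ∧ g * y * g⁻¹ = w} ≠ {w : G | ∃ g : G, Commute g x ∧ g * x * g⁻¹ = w} ∧
      {w : G | ∃ g : G, Commute g x ∧ g * z * g⁻¹ = w} ≠ {w : G | ∃ g : G, Commute g x ∧ g * x * g⁻¹ = w} ∧
      {w : G | ∃ g : G, Commute g x ∧ g * y * g⁻¹ = w} ≠ {w : G | ∃ g : G, Commute g x ∧ g * z * g⁻¹ = w} ∧
      D = {w : G | ∃ g : G, Commute g x ∧ g * x * g⁻¹ = w} ∪ {w : G | ∃ g : G, Commute g x ∧ g * y * g⁻¹ = w} ∪
        {w : G | ∃ g : G, Commute g x ∧ g * z * g⁻¹ = w}) :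
    RankThree D := by
  obtain ⟨d₀, hd₀, hD⟩ := hconj
  have single : ∀ a ∈ D, ∀ b ∈ D, ∃ g : G, g * a * g⁻¹ = b := fun a ha b hb => by
    rw [hD] at ha hb
    exact isConj_iff.1 ((ha : IsConj d₀ a).symm.trans hb)
  have conj : ∀ g : G, ∀ d ∈ D, g * d * g⁻¹ ∈ D := fun g d hd => by
    rw [hD] at hd ⊢
    exact (hd : IsConj d₀ d).trans (isConj_iff.2 ⟨g, rfl⟩)
  have inv_comm : ∀ {g x : G}, Commute g x → g * x * g⁻¹ = x := fun h => conj_eq_iff_commute.2 h
  have hnotall : ∀ x ∈ D, ∃ z ∈ D, ¬ Commute x z := by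
    intro x hx
    by_contra! hall
    have hpw : ∀ a ∈ D, ∀ b ∈ D, Commute a b := fun a ha b hb => by
      obtain ⟨g, hg⟩ := single x hx a ha
      have := (Commute.conj_iff g).2 (hall (g⁻¹ * b * g) (by simpa using conj g⁻¹ b hb))
      rwa [hg, show g * (g⁻¹ * b * g) * g⁻¹ = b by group] at this
    have h1 : closure D ≤ centralizer D := (closure_le _).2 fun a ha =>
      mem_centralizer_iff.2 fun b hb => (hpw b hb a ha).eq
    have h2 : ∀ a b : G, Commute a b := fun a b => by
      have ha : a ∈ centralizer D := h1 (hgen ▸ mem_top a)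
      have h3 : closure D ≤ centralizer {a} := (closure_le _).2 fun c hc =>
        mem_centralizer_singleton_iff.2 (mem_centralizer_iff.1 ha c hc)
      exact (mem_centralizer_singleton_iff.1 (h3 (hgen ▸ mem_top b))).symm
    have h4 := hsol ⊤ inferInstance
      (Group.isSolvable_of_comm fun a b => Subtype.ext (h2 a b))
    have hx1 : x ∈ (⊥ : Subgroup G) := h4 ▸ mem_top x
    have := hinv x hx
    rw [mem_bot.1 hx1, orderOf_one] at this
    omega
  have hedge : ∀ x ∈ D, ∃ y ∈ D, y ≠ x ∧ Commute x y := by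
    intro x hx
    by_contra! hnone
    have hiso : Cfsg.IsIsolatedInvolution x := ⟨hinv x hx, fun g hc => by
      by_contra hne
      exact hnone _ (conj g x hx) hne hc⟩
    have hO : Cfsg.oddCore G = ⊥ :=
      hsol _ Involution.ZStar.oddCore_normal
        (OddOrder.Final.oddSolvable _ Involution.ZStar.odd_card_oddCore)
    have hcen : x ∈ center G := mem_center_iff.2 fun g => by
      have h1 := Involution.ZStar.comm_mem_oddCore hiso g
      rw [hO, mem_bot, mul_inv_eq_one, mul_inv_eq_iff_eq_mul] at h1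
      exact h1.symm
    have hn : (zpowers x).Normal := ⟨fun a ha g => by
      obtain ⟨k, rfl⟩ := ha
      rw [mem_center_iff.1 (zpow_mem hcen k) g, mul_inv_cancel_right]
      exact zpow_mem_zpowers x k⟩
    have h2 := hsol _ hn (Group.isSolvable_of_comm fun a b => Subtype.ext <| by
      obtain ⟨i, hi⟩ := a.2
      obtain ⟨j, hj⟩ := b.2
      show (a : G) * b = b * a
      rw [← hi, ← hj]
      exact Commute.zpow_zpow (Commute.refl x) i j)
    rw [zpowers_eq_bot] at h2
    have := hinv x hx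
    rw [h2, orderOf_one] at this
    omega
  refine ⟨hsol, hinv, conj, single, hgen, ⟨d₀, hd₀⟩, ?_, hedge, hnotall⟩
  intro x hx w hw hwx w' hw' hwx' hiff
  obtain ⟨y, hy, z, hz, -, -, -, hcov⟩ := hrank x hx
  have orb : ∀ v ∈ D, v ≠ x → (∃ g, Commute g x ∧ g * y * g⁻¹ = v) ∨
      (∃ g, Commute g x ∧ g * z * g⁻¹ = v) := by
    intro v hv hvx
    rw [hcov] at hv
    rcases hv with (⟨g, hg, e⟩ | h) | h
    · exact absurd (e ▸ inv_comm hg) hvx
    · exact Or.inl h
    · exact Or.inr h
  have hcomm : ∀ {v u : G}, (∃ g, Commute g x ∧ g * u * g⁻¹ = v) → (Commute x v ↔ Commute x u) := by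
    rintro v u ⟨g, hg, rfl⟩
    conv_lhs => arg 1; rw [← inv_comm hg]
    exact Commute.conj_iff g
  have hyz : ¬ (Commute x y ↔ Commute x z) := by
    intro e
    obtain ⟨y', hy', hne, hc⟩ := hedge x hx
    obtain ⟨z', hz', hn⟩ := hnotall x hx
    have hzx : z' ≠ x := fun e' => hn (e' ▸ Commute.refl x)
    rcases orb y' hy' hne with h1 | h1 <;> rcases orb z' hz' hzx with h2 | h2 <;>
      · have := hcomm h1; have := hcomm h2; tauto
  have hcomp : ∀ {u : G}, (∃ g, Commute g x ∧ g * u * g⁻¹ = w) →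
      (∃ g, Commute g x ∧ g * u * g⁻¹ = w') → ∃ g, Commute g x ∧ g * w * g⁻¹ = w' := by
    rintro u ⟨g, hg, e⟩ ⟨g', hg', e'⟩
    exact ⟨g' * g⁻¹, hg'.mul_left hg.inv_left, by rw [← e, ← e']; group⟩
  rcases orb w hw hwx with h1 | h1 <;> rcases orb w' hw' hwx' with h2 | h2
  · exact hcomp h1 h2
  · exact absurd ((hcomm h1).symm.trans (hiff.trans (hcomm h2))) hyz
  · exact absurd (((hcomm h1).symm.trans (hiff.trans (hcomm h2))).symm) hyz
  · exact hcomp h1 h2

namespace RankThree

variable {D : Set G} (R : RankThree D)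
include R

theorem sq {d : G} (hd : d ∈ D) : d * d = 1 := Involution.Dihedral.mul_self (R.two d hd)

theorem inv_eq {d : G} (hd : d ∈ D) : d⁻¹ = d := Involution.Dihedral.inv_eq (R.two d hd)

/-- A property of non-commuting pairs invariant under conjugation holds for all or none. -/
theorem transport {P : G → G → Prop}
    (hP : ∀ g a b, P a b → P (g * a * g⁻¹) (g * b * g⁻¹)) {x z x' z' : G} (hx : x ∈ D) (hz : z ∈ D)
    (hn : ¬ Commute x z) (hx' : x' ∈ D) (hz' : z' ∈ D) (hn' : ¬ Commute x' z') (h : P x z) :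
    P x' z' := by
  obtain ⟨g, rfl⟩ := R.single x hx x' hx'
  have n1 : ¬ Commute (g * x * g⁻¹) (g * z * g⁻¹) := fun hc => hn ((Commute.conj_iff g).1 hc)
  obtain ⟨k, hk, rfl⟩ := R.trans _ hx' _ (R.conj g z hz) (fun e => n1 (e ▸ Commute.refl _)) z' hz'
    (fun e => hn' (e ▸ Commute.refl _)) (iff_of_false n1 hn')
  have h2 := hP k _ _ (hP g _ _ h)
  rwa [conj_eq_iff_commute.2 hk] at h2

/-- The transitivity on commuting pairs. -/
theorem transport_edge {P : G → G → Prop}
    (hP : ∀ g a b, P a b → P (g * a * g⁻¹) (g * b * g⁻¹)) {x y x' y' : G} (hx : x ∈ D) (hy : y ∈ D)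
    (hne : y ≠ x) (hc : Commute x y) (hx' : x' ∈ D) (hy' : y' ∈ D) (hne' : y' ≠ x')
    (hc' : Commute x' y') (h : P x y) : P x' y' := by
  obtain ⟨g, rfl⟩ := R.single x hx x' hx'
  obtain ⟨k, hk, rfl⟩ := R.trans _ hx' _ (R.conj g y hy) (fun e => hne (by simpa using e)) y' hy' hne'
    (iff_of_true ((Commute.conj_iff g).2 hc) hc')
  have h2 := hP k _ _ (hP g _ _ h)
  rwa [conj_eq_iff_commute.2 hk] at h2

theorem comm_of_sq {a b : G} (ha : a ∈ D) (hb : b ∈ D) (h : (a * b) ^ 2 = 1) : Commute a b := by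
  rw [pow_two] at h
  have h1 := inv_eq_of_mul_eq_one_right h
  rw [mul_inv_rev, R.inv_eq ha, R.inv_eq hb] at h1
  exact h1.symm

theorem sq_of_comm {a b : G} (ha : a ∈ D) (hb : b ∈ D) (h : Commute a b) : (a * b) ^ 2 = 1 := by
  rw [pow_two, h.eq, show b * a * (b * a) = b * (a * b) * a by group, h.eq,
    show b * (b * a) * a = b * b * (a * a) by group, R.sq ha, R.sq hb, one_mul]

/-- The order of the product of a non-commuting pair is an odd prime. -/
theorem exists_prime [Finite G] : ∃ p : ℕ, p.Prime ∧ 3 ≤ p ∧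
    ∀ a ∈ D, ∀ b ∈ D, Commute a b ∨ orderOf (a * b) = p := by
  obtain ⟨x, hx⟩ := R.nonempty
  obtain ⟨z, hz, hn⟩ := R.nonedge x hx
  set r := x * z with hr
  set m := orderOf r with hm
  have hall : ∀ a ∈ D, ∀ b ∈ D, Commute a b ∨ orderOf (a * b) = m := by
    intro a ha b hb
    refine or_iff_not_imp_left.2 fun hn' => ?_
    refine R.transport (P := fun a b => orderOf (a * b) = m) (fun g a b h => ?_) hx hz hn ha hb hn' rfl
    rw [show g * a * g⁻¹ * (g * b * g⁻¹) = g * (a * b) * g⁻¹ by group,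
      Involution.Dihedral.orderOf_conj, h]
  have hm3 : 3 ≤ m := by
    have h0 := orderOf_pos r
    by_contra h3
    refine hn (R.comm_of_sq hx hz (orderOf_dvd_iff_pow_eq_one.1 ?_))
    show m ∣ 2
    have : m = 1 ∨ m = 2 := by omega
    rcases this with e | e <;> simp [e]
  have hkey : ∀ k : ℕ, (r ^ (2 * k)) ^ 2 = 1 ∨ orderOf (r ^ (2 * k)) = m := by
    intro k
    have hxk := R.conj (r ^ k) x hx
    have e : r ^ k * x * (r ^ k)⁻¹ * x = r ^ (2 * k) := by
      have h1 := Involution.Dihedral.conj_pow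
        (Involution.Dihedral.conj_mul_left (R.two x hx) (R.two z hz)) k
      rw [R.inv_eq hx] at h1
      have h2 : x * (r ^ k)⁻¹ * x = r ^ k := by
        rw [← h1, show x * (x * r ^ k * x) * x = x * x * r ^ k * (x * x) by group, R.sq hx, one_mul,
          mul_one]
      rw [mul_assoc (r ^ k) x, mul_assoc (r ^ k), h2, ← pow_add, ← two_mul]
    rcases hall _ hxk x hx with hc | ho
    · left; rw [← e]; exact R.sq_of_comm hxk hx hc
    · right; rw [← e]; exact ho
  rcases Nat.even_or_odd m with ⟨j, hj⟩ | hodd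
  · exfalso
    have hm4 : m = 4 := by
      rcases hkey 1 with h1 | h1
      · rw [← pow_mul] at h1
        have h2 := Nat.le_of_dvd (by norm_num) (orderOf_dvd_of_pow_eq_one h1)
        omega
      · exfalso
        have h2 : (r ^ (2 * 1)) ^ j = 1 := by
          rw [← pow_mul, show 2 * 1 * j = m by omega, hm, pow_orderOf_eq_one]
        have h3 := Nat.le_of_dvd (by omega) (h1 ▸ orderOf_dvd_of_pow_eq_one h2)
        omega
    haveI := Fact.mk Nat.prime_two
    obtain ⟨N, hNn, hN2, hxN⟩ := Involution.BaerSuzuki.exists_normal (p := 2) (zpowers x) fun g => by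
      have hg := R.conj g x hx
      have h4 : (x * (g * x * g⁻¹)) ^ 4 = 1 := by
        rcases hall x hx _ hg with hc | ho
        · rw [show (4 : ℕ) = 2 * 2 from rfl, pow_mul, R.sq_of_comm hx hg hc, one_pow]
        · rw [show (4 : ℕ) = m from hm4.symm, ← ho, pow_orderOf_eq_one]
      have hH : IsPGroup 2 (closure ({x, g * x * g⁻¹} : Set G)) := by
        rintro ⟨d, hd⟩
        refine ⟨2, Subtype.ext ?_⟩
        show d ^ 2 ^ 2 = 1
        rcases (Involution.Dihedral.mem_closure_pair_iff (R.two x hx) (R.two _ hg) d).1 hd with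
          ⟨k, rfl⟩ | ⟨k, rfl⟩
        · show ((x * (g * x * g⁻¹)) ^ k) ^ 4 = 1
          rw [← zpow_natCast, ← zpow_mul, mul_comm, zpow_mul, zpow_natCast, h4, one_zpow]
        · rw [show (2 : ℕ) ^ 2 = 2 * 2 from rfl, pow_mul, pow_two (x * _),
            Involution.Dihedral.mul_zpow_mul_self (R.two x hx)
              (Involution.Dihedral.conj_mul_left (R.two x hx) (R.two _ hg)), one_pow]
      refine hH.to_le (sup_le (zpowers_le.2 (subset_closure (by simp))) ?_)
      rw [MonoidHom.map_zpowers, zpowers_le]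
      exact subset_closure (Or.inr rfl)
    haveI := hN2.isNilpotent
    have h1 : x ∈ (⊥ : Subgroup G) := R.sol N hNn inferInstance ▸ hxN (mem_zpowers x)
    have h2 := R.two x hx
    rw [mem_bot.1 h1, orderOf_one] at h2
    omega
  · refine ⟨m, ?_, hm3, hall⟩
    have hq := Nat.minFac_prime (by omega : m ≠ 1)
    obtain ⟨l, hl⟩ := Nat.minFac_dvd m
    have hl0 : 0 < l := Nat.pos_of_ne_zero fun e => by rw [e, mul_zero] at hl; omega
    rcases hkey m.minFac with h1 | h1
    · rw [← pow_mul] at h1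
      have h2 : m ∣ m.minFac * 4 := by
        rw [show m.minFac * 4 = 2 * m.minFac * 2 by ring]
        exact orderOf_dvd_of_pow_eq_one h1
      have h3 : m ∣ m.minFac :=
        (Nat.Coprime.pow_right 2 hodd.coprime_two_right : Nat.Coprime m (2 ^ 2)).dvd_of_dvd_mul_right h2
      rw [Nat.dvd_antisymm h3 (Nat.minFac_dvd m)]
      exact hq
    · exfalso
      have h2 : (r ^ (2 * m.minFac)) ^ l = 1 := by
        rw [← pow_mul, mul_assoc, ← hl, mul_comm, pow_mul, hm, pow_orderOf_eq_one, one_pow]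
      have h3 := Nat.le_of_dvd hl0 (h1 ▸ orderOf_dvd_of_pow_eq_one h2)
      have h4 : 2 * l ≤ m.minFac * l := Nat.mul_le_mul hq.two_le le_rfl
      omega

end RankThree

section Five

variable {p : ℕ} {D : Set G} (R : RankThree D) (h : Hyp p D)
include R h

/-- Some commuting pair has a witness. -/
theorem RankThree.exists_witness [Finite G] : ¬ NoWitness D := by
  intro hW
  obtain ⟨x, hx⟩ := R.nonempty
  obtain ⟨y, hy, hne, hc⟩ := R.edge x hx
  have tr : ∀ {a b c : G}, a ∈ D → b ∈ D → c ∈ D → (a = b ∨ ¬ Commute a b) →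
      (b = c ∨ ¬ Commute b c) → (a = c ∨ ¬ Commute a c) := by
    intro a b c ha hb hc h1 h2
    rcases h1 with rfl | h1
    · exact h2
    rcases h2 with rfl | h2
    · exact Or.inr h1
    by_contra! hh
    exact no_bad _ le_rfl h hW (x := a) (y := c) (z := b)
      ⟨ha, hc, hb, hh.1, hh.2, h1, fun e => h2 e.symm⟩
  have hstep : ∀ d ∈ D, ∀ q ∈ D, (x = q ∨ ¬ Commute x q) →
      (x = d * q * d⁻¹ ∨ ¬ Commute x (d * q * d⁻¹)) := by
    intro d hd q hq hxq
    by_cases hdq : Commute d q
    · rwa [conj_eq_iff_commute.2 hdq]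
    · refine tr hx hd (h.conj d q hq) (tr hx hq hd hxq (Or.inr fun e => hdq e.symm)) (Or.inr ?_)
      exact fun e => hdq ((Commute.conj_iff d).1 (by simpa using e))
  have hall : ∀ g : G, g ∈ closure D → ∀ q ∈ D, (x = q ∨ ¬ Commute x q) →
      (x = g * q * g⁻¹ ∨ ¬ Commute x (g * q * g⁻¹)) ∧
        (x = g⁻¹ * q * g ∨ ¬ Commute x (g⁻¹ * q * g)) := by
    intro g hg
    induction hg using closure_induction with
    | mem d hd =>
      refine fun q hq hxq => ⟨hstep d hd q hq hxq, ?_⟩
      have := hstep d hd q hq hxq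
      rwa [h.inv_eq hd] at this ⊢
    | one => exact fun q _ hxq => by simpa using hxq
    | mul a b _ _ iha ihb =>
      refine fun q hq hxq => ⟨?_, ?_⟩
      · simpa [mul_assoc] using (iha _ (h.conj b q hq) (ihb q hq hxq).1).1
      · simpa [mul_assoc] using
          (ihb _ (by simpa using h.conj a⁻¹ q hq) (iha q hq hxq).2).2
    | inv a _ iha =>
      exact fun q hq hxq => ⟨by simpa using (iha q hq hxq).2, by simpa using (iha q hq hxq).1⟩
  obtain ⟨g, rfl⟩ := R.single x hx y hy
  rcases (hall g (R.gen ▸ mem_top g) x hx (Or.inl rfl)).1 with e | e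
  · exact hne e.symm
  · exact e hc

/-- Commuting is transitive. -/
theorem RankThree.comm_trans [Finite G] {a t b : G} (ha : a ∈ D) (ht : t ∈ D) (hb : b ∈ D)
    (hat : Commute a t) (htb : Commute t b) : Commute a b := by
  by_cases hat' : a = t
  · exact hat' ▸ htb
  by_cases hbt : b = t
  · exact hbt ▸ hat
  have hw := R.exists_witness h
  simp only [NoWitness, not_forall, not_not] at hw
  obtain ⟨x, y, z, hbad, hwit⟩ := hw
  obtain ⟨hx, hy, hz, hne, hc, nxz, nyz⟩ := id hbad
  refine R.transport_edge (P := fun u v => ∀ a ∈ D, a ≠ u → Commute a u → Commute a v)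
    (fun g u v hP a ha hau hcu => ?_) hx hy hne.symm hc ht hb hbt htb ?_ a ha hat' hat
  · have h1 := hP (g⁻¹ * a * g) (by simpa using R.conj g⁻¹ a ha)
      (fun e => hau (by rw [← e]; group))
      ((Commute.conj_iff g).1 (by simpa [mul_assoc] using hcu))
    simpa [mul_assoc] using (Commute.conj_iff g).2 h1
  intro a ha hax cax
  set e := x * y with he
  have heD : e ∉ D := fun hm => no_bad_prod _ le_rfl h ⟨hbad, hm⟩
  have ee : e * e = 1 := h.prod_sq hx hy hc
  have ei : e⁻¹ = e := h.prod_inv hx hy hc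
  have zz : z * z = 1 := h.sq z hz
  set f := z * e * z⁻¹ with hf
  have ff : f * f = 1 := by
    rw [hf, show z * e * z⁻¹ * (z * e * z⁻¹) = z * (e * e) * z⁻¹ by group, ee, mul_one, mul_inv_cancel]
  have fi : f⁻¹ = f := inv_eq_of_mul_eq_one_right ff
  have cef : Commute e f := by
    have h1 := h.prod_sq hz (h.conj e z hz) hwit
    have e1 : z * (e * z * e⁻¹) = f * e := by rw [hf, ei, h.inv_eq hz]; group
    rw [e1] at h1
    have h2 := inv_eq_of_mul_eq_one_right h1
    rw [mul_inv_rev, fi, ei] at h2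
    exact h2
  set y' := f * x * f⁻¹ with hy'
  set y4 := f * y * f⁻¹ with hy4
  have hy'D : y' ∈ D := h.conj f x hx
  have hy4D : y4 ∈ D := h.conj f y hy
  have c4 : Commute y' y4 := (Commute.conj_iff f).2 hc
  have e4 : y' * y4 = e := by
    rw [hy', hy4, show f * x * f⁻¹ * (f * y * f⁻¹) = f * e * f⁻¹ by rw [he]; group]
    exact conj_eq_iff_commute.2 cef.symm
  obtain ⟨cxy', cyy'⟩ := h.comm_of_comm_prod hx hy hne hc hy'D
    (e4 ▸ (Commute.refl y').mul_left c4.symm : Commute e y')
  set u := x * z with hu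
  have hxe : x * e * x⁻¹ = e :=
    conj_eq_iff_commute.2 ((Commute.refl x).mul_right hc)
  have nez : ¬ Commute e z := h.not_commute_prod hx hy hne hc hz nxz
  have hue : ∀ k : ℕ, Nat.Coprime k p → Commute (u ^ k) e → False := by
    intro k hk hck
    obtain ⟨i, hi⟩ := exists_pow_eq_self_of_coprime (x := u) (n := k)
      (by rw [h.order hx hz nxz]; exact hk)
    have hue : Commute u e := hi ▸ hck.pow_left i
    refine nez ?_
    have hxu : Commute (x * u) e := (conj_eq_iff_commute.1 hxe).mul_left hue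
    rw [hu, ← mul_assoc, h.sq x hx, one_mul] at hxu
    exact hxu.symm
  have u1 : u * e * u⁻¹ = x * f * x⁻¹ := by rw [hu, hf]; group
  have u2 : u * f * u⁻¹ = e := by
    rw [hu, hf, show x * z * (z * e * z⁻¹) * (x * z)⁻¹ = x * (z * z * e * (z * z)⁻¹) * x⁻¹ by group,
      zz, one_mul, inv_one, mul_one, hxe]
  have hy'x : y' ≠ x := fun e' => by
    have cxf : Commute f x := conj_eq_iff_commute.1 e'
    rw [conj_eq_iff_commute.2 cxf.symm] at u1
    refine hue 2 (Nat.coprime_two_left.2 h.odd) (conj_eq_iff_commute.1 ?_)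
    rw [pow_two, show u * u * e * (u * u)⁻¹ = u * (u * e * u⁻¹) * u⁻¹ by group, u1, u2]
  have hy'y : y' ≠ y := fun e' => by
    have h1 : f * x * f * x = e * 1 := by
      rw [mul_one]
      calc f * x * f * x = y' * x := by rw [hy', fi]
        _ = e := by rw [e', he, hc.eq]
    have h2 : x * f * x⁻¹ = e * f := by
      rw [h.inv_eq hx]
      calc x * f * x = f * f * (x * f * x) := by rw [ff, one_mul]
        _ = f * (f * x * f * x) := by group
        _ = e * f := by rw [h1, mul_one, cef.eq]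
    rw [h2] at u1
    refine hue 3 ((Nat.coprime_primes Nat.prime_three h.prime).2 (by have := h.five; omega))
      (conj_eq_iff_commute.1 ?_)
    rw [show u ^ 3 = u * u * u by rw [pow_succ, pow_two],
      show u * u * u * e * (u * u * u)⁻¹ = u * (u * (u * e * u⁻¹) * u⁻¹) * u⁻¹ by group, u1,
      show u * (e * f) * u⁻¹ = u * e * u⁻¹ * (u * f * u⁻¹) by group, u1, u2, cef.eq,
      mul_assoc f, ee, mul_one, u2]
  have hy4e : y4 = y' * (x * y) := by
    rw [← he, ← e4, ← mul_assoc, h.sq y' hy'D, one_mul]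
  by_contra nay
  have nay' : ¬ Commute a y' := fun cay' => by
    refine h.no_twop ha hy nay ha hy4D (h.prod_sq hx hy'D cxy') ?_ ?_ ?_
    · intro e1
      rw [mul_eq_one_iff_eq_inv, h.inv_eq hy'D] at e1
      exact hy'x e1.symm
    · exact (cax.symm.mul_left cay'.symm).mul_right (hc.mul_left cyy'.symm)
    · rw [hy4e, ← mul_assoc, cay'.eq, show y' * a * (x * y) = y' * (a * x) * y by group, cax.eq,
        cxy'.eq]
      group
  -- the centraliser of `x` modulo `x`
  let H : Subgroup G := centralizer {x}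
  have mH : ∀ {g : G}, Commute g x → g ∈ H := fun {g} hg => mem_centralizer_singleton_iff.2 hg.eq
  have hHc : ∀ g : H, Commute (g : G) x := fun g => mem_centralizer_singleton_iff.1 g.2
  let ξ : H := ⟨x, mH (Commute.refl x)⟩
  have hξ : ξ ∈ center H := mem_center_iff.2 fun g => Subtype.ext (hHc g).eq
  let N : Subgroup H := zpowers ξ
  haveI : N.Normal := ⟨fun v hv g => by
    obtain ⟨k, rfl⟩ := hv
    rw [mem_center_iff.1 (zpow_mem hξ k) g, mul_inv_cancel_right]
    exact zpow_mem_zpowers ξ k⟩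
  have hNmem : ∀ {v : H}, v ∈ N → (v : G) = 1 ∨ (v : G) = x := by
    intro v hv
    rw [mem_zpowers_iff] at hv
    obtain ⟨k, rfl⟩ := hv
    rw [SubgroupClass.coe_zpow]
    rcases Int.even_or_odd k with ⟨i, rfl⟩ | ⟨i, rfl⟩
    · left; rw [← two_mul, zpow_mul, zpow_two, h.sq x hx, one_zpow]
    · right; rw [zpow_add, zpow_mul, zpow_two, h.sq x hx, one_zpow, one_mul, zpow_one]
  have hH := h.subgroup H
  have hN : ∀ c ∈ {q : H | (q : G) ∈ D}, ∀ d ∈ {q : H | (q : G) ∈ D}, ¬ Commute c d →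
      c * d ∉ N := by
    intro c hc' d hd hcd hm
    refine hcd (Subtype.ext ?_)
    show Commute (c : G) d
    rcases hNmem hm with e1 | e1 <;> rw [coe_mul] at e1
    · rw [mul_eq_one_iff_eq_inv, h.inv_eq hd] at e1
      exact e1 ▸ Commute.refl (d : G)
    · rw [show (d : G) = (c : G) * x by rw [← e1, ← mul_assoc, h.sq _ hc', one_mul]]
      exact (Commute.refl _).mul_right (hHc c)
  let Y : H := ⟨y, mH hc.symm⟩
  let Y' : H := ⟨y', mH cxy'.symm⟩
  let A : H := ⟨a, mH cax⟩
  let Y4 : H := ⟨y4, mH (hy4e ▸ cxy'.symm.mul_left ((Commute.refl x).mul_left hc.symm))⟩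
  have hne1 : ∀ v : H, (v : G) ∈ D → (v : G) ≠ x → (v : H ⧸ N) ≠ 1 := fun v hv hvx e1 => by
    rcases hNmem ((QuotientGroup.eq_one_iff v).1 e1) with e2 | e2
    · exact h.ne _ hv e2
    · exact hvx e2
  have hy4x : y4 ≠ x := fun e1 => hy'y (by
    have h1 := e4
    rw [e1, he, hc.eq] at h1
    exact mul_right_cancel h1)
  have hY : (Y : H ⧸ N) ∈ {q : H ⧸ N | q ≠ 1 ∧ ∃ d ∈ {q : H | (q : G) ∈ D}, (d : H ⧸ N) = q} :=
    ⟨hne1 Y hy hne.symm, Y, hy, rfl⟩
  have hY' : (Y' : H ⧸ N) ∈ {q : H ⧸ N | q ≠ 1 ∧ ∃ d ∈ {q : H | (q : G) ∈ D}, (d : H ⧸ N) = q} :=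
    ⟨hne1 Y' hy'D hy'x, Y', hy'D, rfl⟩
  have hA : (A : H ⧸ N) ∈ {q : H ⧸ N | q ≠ 1 ∧ ∃ d ∈ {q : H | (q : G) ∈ D}, (d : H ⧸ N) = q} :=
    ⟨hne1 A ha hax, A, ha, rfl⟩
  have nYA : ¬ Commute Y A := fun e1 => nay (congrArg Subtype.val e1 : Commute y a).symm
  have nY'A : ¬ Commute Y' A := fun e1 => nay' (congrArg Subtype.val e1 : Commute y' a).symm
  refine no_bad_prod _ le_rfl (hH.quotient N hN) (x := (Y : H ⧸ N)) (y := (Y' : H ⧸ N))
    (z := (A : H ⧸ N)) ⟨⟨hY, hY', hA, ?_, ?_, ?_, ?_⟩, ?_⟩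
  · intro e1
    have h1 := QuotientGroup.eq.1 e1
    rcases hNmem h1 with e2 | e2 <;> rw [coe_mul, coe_inv] at e2
    · exact hy'y (inv_mul_eq_one.1 e2).symm
    · refine heD ?_
      rw [inv_mul_eq_iff_eq_mul] at e2
      have : y' ∈ D := hy'D
      rw [show y' = y * x from e2, ← hc.eq, ← he] at this
      exact this
  · exact (show Commute Y Y' from Subtype.ext cyy'.eq).map (QuotientGroup.mk' N)
  · exact (hH.quotient N hN).not_commute_of_order hY hA (hH.mk_order N hy ha nYA (hN _ hy _ ha nYA))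
  · exact (hH.quotient N hN).not_commute_of_order hY' hA
      (hH.mk_order N hy'D ha nY'A (hN _ hy'D _ ha nY'A))
  · refine ⟨?_, Y4, hy4D, ?_⟩
    · rw [← QuotientGroup.mk_mul]
      intro e1
      rcases hNmem ((QuotientGroup.eq_one_iff _).1 e1) with e2 | e2 <;>
        change y * y' = _ at e2
      · rw [mul_eq_one_iff_eq_inv, h.inv_eq hy'D] at e2
        exact hy'y e2.symm
      · refine heD ?_
        have h2 : y' = y * x := by rw [← e2, ← mul_assoc, h.sq y hy, one_mul]
        rw [he, hc.eq, ← h2]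
        exact hy'D
    · rw [← QuotientGroup.mk_mul]
      refine (QuotientGroup.eq.2 ?_)
      have h1 : Y4⁻¹ * (Y * Y') = ξ := Subtype.ext <| by
        show y4⁻¹ * (y * y') = x
        rw [h.inv_eq hy4D, hy4e, cyy'.eq,
          show y' * (x * y) * (y' * y) = y' * x * (y * y') * y by group, cyy'.eq,
          show y' * x * (y' * y) * y = y' * x * y' * (y * y) by group, h.sq y hy, mul_one,
          ← cxy'.eq, mul_assoc, h.sq y' hy'D, mul_one]
      rw [h1]
      exact mem_zpowers ξ

/-- A prime at least five is impossible. -/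
theorem RankThree.false_of_five [Finite G] : False := by
  classical
  letI := Fintype.ofFinite G
  have htr : ∀ a ∈ D, ∀ t ∈ D, ∀ b ∈ D, Commute a t → Commute t b → Commute a b :=
    fun a ha t ht b hb => R.comm_trans h ha ht hb
  have fix_comm : ∀ {x d : G}, x ∈ D → d ∈ D → Commute x (d * x * d⁻¹) → Commute x d := by
    intro x d hx hd hc
    by_contra hxd
    have h1 := h.prod_sq hx (h.conj d x hx) hc
    rw [h.inv_eq hd] at h1
    have h2 : x * d * (x * d) * (x * d * (x * d)) = 1 := by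
      rw [show x * d * (x * d) = x * (d * x * d) by group]; exact h1
    have hp := h.pow_eq_one hx hd hxd
    have h3 : (x * d * (x * d)) ^ p = 1 := by
      rw [← pow_two, ← pow_mul, mul_comm, pow_mul, hp, one_pow]
    have h4 := h.eq_one_of_sq hp (h.eq_one_of_sq h3 h2)
    rw [mul_eq_one_iff_eq_inv, h.inv_eq hd] at h4
    exact hxd (h4 ▸ Commute.refl x)
  have inj : ∀ {x d d' : G}, x ∈ D → d ∈ D → d' ∈ D → ¬ Commute x d →
      d * x * d⁻¹ = d' * x * d'⁻¹ → d = d' := by
    intro x d d' hx hd hd' nd e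
    by_contra hne
    have hu : Commute x (d' * d) := by
      show x * (d' * d) = d' * d * x
      calc x * (d' * d) = d'⁻¹ * (d' * x * d'⁻¹) * d := by
            rw [h.inv_eq hd']; simp [mul_assoc, ← mul_assoc d' d', h.sq d' hd']
        _ = d'⁻¹ * (d * x * d⁻¹) * d := by rw [e]
        _ = d' * d * x := by rw [h.inv_eq hd']; group
    by_cases hc : Commute d' d
    · exact nd (h.comm_of_comm_prod hd' hd (Ne.symm hne) hc hx hu.symm).2.symm
    · exact nd (h.comm_of_comm_diff hx hd' hd hc hu).2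
  have surj : ∀ {x z : G}, x ∈ D → z ∈ D → ¬ Commute x z →
      ∃ d ∈ D, ¬ Commute x d ∧ d * x * d⁻¹ = z := by
    intro x z hx hz hn
    let S : Set G := {q | q ∈ D ∧ ¬ Commute x q}
    let f : S → S := fun d =>
      ⟨d * x * (d : G)⁻¹, h.conj d x hx, fun hc => d.2.2 (fix_comm hx d.2.1 hc)⟩
    have hf : Function.Injective f := fun d d' e =>
      Subtype.ext (inj hx d.2.1 d'.2.1 d.2.2 (congrArg Subtype.val e))
    obtain ⟨⟨d, hd, nd⟩, e⟩ := Finite.injective_iff_surjective.1 hf ⟨z, hz, hn⟩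
    exact ⟨d, hd, nd, congrArg Subtype.val e⟩
  let C : G → Finset G := fun x => {q | q ∈ D ∧ Commute x q}
  have hC : ∀ {x q : G}, q ∈ C x ↔ q ∈ D ∧ Commute x q := fun {x q} => by simp [C]
  have hcard : ∀ {a b : G}, a ∈ D → b ∈ D → (C a).card ≤ (C b).card := by
    intro a b ha hb
    obtain ⟨g, rfl⟩ := R.single a ha b hb
    refine Finset.card_le_card_of_injOn (fun q => g * q * g⁻¹) (fun q hq => ?_)
      (fun q _ q' _ e => by simpa using e)
    rw [Finset.mem_coe, hC] at hq ⊢
    exact ⟨R.conj g q hq.1, (Commute.conj_iff g).2 hq.2⟩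
  -- non-commuting members never agree on a class which they move
  have share : ∀ {d d' x : G}, d ∈ D → d' ∈ D → x ∈ D → ¬ Commute d x →
      Commute (d * x * d⁻¹) (d' * x * d'⁻¹) → Commute d d' := by
    intro d d' x hd hd' hx ndx hs
    by_contra ndd
    let T : Finset G := {q | q ∈ D ∧ ¬ Commute d q}
    have hT : ∀ {q : G}, q ∈ T ↔ q ∈ D ∧ ¬ Commute d q := fun {q} => by simp [T]
    let r : G → G → Prop := fun d' x => Commute (d * x * d⁻¹) (d' * x * d'⁻¹)
    have hall : ∀ q ∈ T, ∃ v ∈ T, r q v := by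
      intro q hq
      obtain ⟨v, hv, nv, hv'⟩ := R.transport
        (P := fun a b => ∃ v ∈ D, ¬ Commute a v ∧ Commute (a * v * a⁻¹) (b * v * b⁻¹))
        (fun g a b ⟨v, hv, nv, hv'⟩ => ⟨g * v * g⁻¹, R.conj g v hv,
          fun hc => nv ((Commute.conj_iff g).1 hc),
          by simpa [mul_assoc] using (Commute.conj_iff g).2 hv'⟩)
        hd hd' ndd hd (hT.1 hq).1 (hT.1 hq).2 ⟨x, hx, ndx, hs⟩
      exact ⟨v, hT.2 ⟨hv, nv⟩, hv'⟩
    have hT0 : 0 < T.card := Finset.card_pos.2 ⟨d', hT.2 ⟨hd', ndd⟩⟩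
    have hc0 : 0 < (C d).card := Finset.card_pos.2 ⟨d, hC.2 ⟨hd, Commute.refl d⟩⟩
    have key : T.card * (C d).card ≤ T.card * ((C d).card - 1) := by
      refine Finset.card_mul_le_card_mul r (fun q hq => ?_) fun v hv => ?_
      · obtain ⟨v, hv, hr⟩ := hall q hq
        obtain ⟨hvD, ndv⟩ := hT.1 hv
        refine (hcard hd hvD).trans (Finset.card_le_card fun w hw => ?_)
        obtain ⟨hwD, cvw⟩ := hC.1 hw
        rw [Finset.mem_bipartiteAbove]
        refine ⟨hT.2 ⟨hwD, fun hh => ndv (htr d hd w hwD v hvD hh cvw.symm)⟩, ?_⟩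
        refine htr _ (h.conj d w hwD) _ (h.conj d v hvD) _ (h.conj q w hwD)
          ((Commute.conj_iff d).2 cvw.symm) ?_
        exact htr _ (h.conj d v hvD) _ (h.conj q v hvD) _ (h.conj q w hwD) hr
          ((Commute.conj_iff q).2 cvw)
      · obtain ⟨hvD, ndv⟩ := hT.1 hv
        have hzD : d * v * d⁻¹ ∈ D := h.conj d v hvD
        calc (T.bipartiteBelow r v).card ≤ ((C (d * v * d⁻¹)).erase (d * v * d⁻¹)).card := by
              refine Finset.card_le_card_of_injOn (fun q => q * v * q⁻¹) ?_ ?_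
              · intro q hq
                rw [Finset.mem_coe, Finset.mem_bipartiteBelow, hT] at hq
                rw [Finset.mem_coe, Finset.mem_erase, hC]
                refine ⟨fun e => hq.1.2 ?_, h.conj q v hvD, hq.2⟩
                rw [inj hvD hd hq.1.1 (fun hh => ndv hh.symm) e.symm]
              · intro q hq q' hq' e
                rw [Finset.mem_coe, Finset.mem_bipartiteBelow, hT] at hq hq'
                refine inj hvD hq.1.1 hq'.1.1 (fun hh => ?_) e
                refine ndv (fix_comm hvD hd ?_).symm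
                have h1 : Commute (d * v * d⁻¹) (q * v * q⁻¹) := hq.2
                rw [conj_eq_iff_commute.2 hh.symm] at h1
                exact h1.symm
          _ ≤ (C d).card - 1 := by
              rw [Finset.card_erase_of_mem (hC.2 ⟨hzD, Commute.refl _⟩)]
              exact Nat.sub_le_sub_right (hcard hzD hd) 1
    exact absurd key (not_le.2 ((Nat.mul_lt_mul_left hT0).2 (Nat.sub_one_lt_of_lt hc0)))
  -- members of one class act alike
  have alike : ∀ {d d' x : G}, d ∈ D → d' ∈ D → x ∈ D → ¬ Commute x d → Commute d d' →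
      Commute (d * x * d⁻¹) (d' * x * d'⁻¹) := by
    intro d d' x hd hd' hx nxd hdd
    let S : Finset G := {q ∈ C d | Commute (d * x * d⁻¹) (q * x * q⁻¹)}
    have h1 : (C d).card ≤ S.card := by
      refine (hcard hd (h.conj d x hx)).trans ?_
      refine (Finset.card_le_card (t := S.image fun q => q * x * q⁻¹) fun w hw => ?_).trans
        Finset.card_image_le
      obtain ⟨hwD, hzw⟩ := hC.1 hw
      have nxw : ¬ Commute x w := fun hc =>
        nxd (fix_comm hx hd (htr x hx w hwD _ (h.conj d x hx) hc hzw.symm))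
      obtain ⟨q, hq, -, rfl⟩ := surj hx hwD nxw
      refine Finset.mem_image.2 ⟨q, ?_, rfl⟩
      simp only [S, Finset.mem_filter, hC]
      exact ⟨⟨hq, share hd hq hx (fun e => nxd e.symm) hzw⟩, hzw⟩
    have hS : S = C d := Finset.eq_of_subset_of_card_le (Finset.filter_subset _ _) h1
    have h2 : d' ∈ S := hS ▸ hC.2 ⟨hd', hdd⟩
    simp only [S, Finset.mem_filter] at h2
    exact h2.2
  -- so a product of two commuting members is in the kernel
  let K : Subgroup G :=
    { carrier := {g | ∀ q ∈ D, Commute q (g * q * g⁻¹)}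
      one_mem' := fun q _ => by simp
      mul_mem' := fun {a b} ha hb q hq => by
        refine htr q hq _ (h.conj a q hq) _ (h.conj (a * b) q hq) (ha q hq) ?_
        simpa [mul_assoc] using (Commute.conj_iff a).2 (hb q hq)
      inv_mem' := fun {a} ha q hq => by
        simpa [mul_assoc] using ((Commute.conj_iff a⁻¹).2 (ha q hq)).symm }
  haveI hKn : K.Normal := ⟨fun k hk g q hq => by
    have h1 := (Commute.conj_iff g).2 (hk (g⁻¹ * q * g) (by simpa using h.conj g⁻¹ q hq))
    simpa [mul_assoc] using h1⟩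
  obtain ⟨x, hx⟩ := R.nonempty
  obtain ⟨y, hy, hne, hc⟩ := R.edge x hx
  have heK : x * y ∈ K := by
    intro q hq
    by_cases hxq : Commute x q
    · rw [conj_eq_iff_commute.2 (hxq.mul_left (htr y hy x hx q hq hc.symm hxq))]
    have h1 := (Commute.conj_iff x).2 (alike hx hy hq (fun e => hxq e.symm) hc)
    rwa [show x * (x * q * x⁻¹) * x⁻¹ = x * x * q * (x * x)⁻¹ by group, h.sq x hx, one_mul, inv_one,
      mul_one, show x * (y * q * y⁻¹) * x⁻¹ = x * y * q * (x * y)⁻¹ by group] at h1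
  let A : Subgroup K := (span D x).subgroupOf K
  haveI hAn : A.Normal := ⟨fun v hv k => by
    rw [mem_subgroupOf] at hv ⊢
    exact span_conj h htr hx (k.2 x hx) hv⟩
  have hA2 : IsPGroup 2 A := fun v => ⟨1, Subtype.ext (Subtype.ext (by
    rw [pow_one]
    show ((v : K) : G) ^ 2 = 1
    rw [pow_two]; exact span_sq h htr hx (mem_subgroupOf.1 v.2)))⟩
  haveI := Fact.mk Nat.prime_two
  let M : Subgroup G := (Cfsg.pCore 2 K).map K.subtype
  have hMn : M.Normal := inferInstance
  haveI := ((Solvable.Cores.isPGroup_pCore (G := K) 2).map K.subtype).isNilpotent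
  have h0 : M = ⊥ := R.sol M hMn inferInstance
  have he : x * y ∈ M := ⟨⟨x * y, heK⟩, Solvable.Cores.le_pCore hA2
    (mem_subgroupOf.2 (mul_mem (mem_span hx (Commute.refl x)) (mem_span hy hc))), rfl⟩
  rw [h0, mem_bot, mul_eq_one_iff_eq_inv, h.inv_eq hy] at he
  exact hne he.symm

end Five

/-- A generating class of rank three in a group without solvable normal subgroup consists of
3-transpositions. -/
theorem RankThree.isThreeTransposition [Finite G] {D : Set G} (R : RankThree D) :
    Cfsg.IsThreeTranspositionSet D := by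
  obtain ⟨p, hp, h3, hall⟩ := R.exists_prime
  refine ⟨R.two, fun d hd e he => ?_⟩
  rcases hall d hd e he with hc | ho
  · exact Or.inl (R.sq_of_comm hd he hc)
  by_cases hp3 : p = 3
  · exact Or.inr (by rw [← hp3, ← ho, pow_orderOf_eq_one])
  · have h4 : p ≠ 4 := fun e4 => absurd (e4 ▸ hp) (by decide)
    exact (R.false_of_five (p := p)
      ⟨hp, by omega, fun d hd => R.sq hd, fun d hd => Involution.Dihedral.ne_one (R.two d hd),
        R.conj, hall⟩).elim

end CfsgLib.TwoP
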